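import Cfsg.Agent.Lib.PSL2.Cases

/-!
# Finite groups of isometries of a three dimensional orthogonal space
-/

set_option autoImplicit false
set_option linter.unusedSectionVars false
set_option linter.style.haveILetI false

namespace CfsgLib.SmallDegree

open Module MulAction

variable {k : Type*} [Field k] [IsAlgClosed k] {W : Type*} [AddCommGroup W] [Module k W]
  [FiniteDimensional k W]

/-- A non-degenerate symmetric form on a three dimensional space in odd characteristic. -/
structure IsOrth3 (B : W →ₗ[k] W →ₗ[k] k) : Prop where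
  symm : ∀ u v, B u v = B v u
  nondeg : ∀ v, (∀ u, B u v = 0) → v = 0
  dim : finrank k W = 3
  two : (2 : k) ≠ 0

/-- A hyperbolic pair with a unit vector orthogonal to it. -/
structure IsFrame (B : W →ₗ[k] W →ₗ[k] k) (e h f : W) : Prop where
  ee : B e e = 0
  ff : B f f = 0
  ef : B e f = 1
  hh : B h h = 1
  eh : B e h = 0
  fh : B f h = 0

/-- An isometry of determinant one. -/
def IsSO (B : W →ₗ[k] W →ₗ[k] k) (g : Module.End k W) : Prop :=
  (∀ u v, B (g u) (g v) = B u v) ∧ LinearMap.det g = 1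

variable {B : W →ₗ[k] W →ₗ[k] k} (hB : IsOrth3 B)

section Frame

variable {e h f : W}
include hB

theorem IsFrame.indep (F : IsFrame B e h f) : LinearIndependent k ![e, h, f] := by
  rw [Fintype.linearIndependent_iff]
  intro g hg
  simp only [Fin.sum_univ_three, Matrix.cons_val_zero, Matrix.cons_val_one, Matrix.cons_val] at hg
  have a0 := congrArg (B f) hg
  have a1 := congrArg (B h) hg
  have a2 := congrArg (B e) hg
  simp only [map_add, map_smul, map_zero, hB.symm f e, hB.symm h e, hB.symm h f, F.ee, F.ff, F.ef,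
    F.hh, F.eh, F.fh, smul_eq_mul, mul_zero, mul_one, zero_add, add_zero] at a0 a1 a2
  intro i
  fin_cases i <;> assumption

/-- The basis of a frame. -/
noncomputable def IsFrame.basis (F : IsFrame B e h f) : Basis (Fin 3) k W :=
  basisOfLinearIndependentOfCardEqFinrank (IsFrame.indep hB F) (by rw [hB.dim]; rfl)

theorem IsFrame.basis_coe (F : IsFrame B e h f) : ⇑(IsFrame.basis hB F) = ![e, h, f] := by
  simp [IsFrame.basis]

theorem IsFrame.expand (F : IsFrame B e h f) (v : W) :
    v = B f v • e + B h v • h + B e v • f := by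
  refine sub_eq_zero.1 (hB.nondeg _ fun u => ?_)
  have he : B e (v - (B f v • e + B h v • h + B e v • f)) = 0 := by
    simp [map_sub, map_add, map_smul, F.ee, F.eh, F.ef]
  have hh : B h (v - (B f v • e + B h v • h + B e v • f)) = 0 := by
    simp [map_sub, map_add, map_smul, hB.symm h e, hB.symm h f, F.eh, F.fh, F.hh]
  have hf : B f (v - (B f v • e + B h v • h + B e v • f)) = 0 := by
    simp [map_sub, map_add, map_smul, hB.symm f e, F.ef, F.ff, F.fh]
  rw [← (IsFrame.basis hB F).sum_repr u]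
  simp only [IsFrame.basis_coe, Fin.sum_univ_three, Matrix.cons_val_zero, Matrix.cons_val_one,
    Matrix.cons_val, map_add, map_smul, LinearMap.add_apply, LinearMap.smul_apply, he, hh, hf,
    smul_zero, add_zero]

theorem IsFrame.repr_apply (F : IsFrame B e h f) (v : W) (i : Fin 3) :
    (IsFrame.basis hB F).repr v i = ![B f v, B h v, B e v] i := by
  conv_lhs => rw [IsFrame.expand hB F v]
  rw [show B f v • e + B h v • h + B e v • f =
    ∑ j, ![B f v, B h v, B e v] j • (IsFrame.basis hB F) j by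
      simp [IsFrame.basis_coe, Fin.sum_univ_three], Basis.repr_sum_self]

theorem exists_partner (he : e ≠ 0) (hee : B e e = 0) : ∃ f, B f f = 0 ∧ B e f = 1 := by
  obtain ⟨w, hw⟩ : ∃ w, B w e ≠ 0 := not_forall.1 fun hall => he (hB.nondeg e hall)
  refine ⟨(B w e)⁻¹ • w - ((B w w) * ((B w e)⁻¹ * (B w e)⁻¹) / 2) • e, ?_, ?_⟩
  · simp only [map_sub, map_smul, LinearMap.sub_apply, LinearMap.smul_apply, smul_eq_mul, hee,
      hB.symm e w]
    have := hB.two
    field_simp
    ring
  · simp only [map_sub, map_smul, smul_eq_mul, hee, hB.symm e w, inv_mul_cancel₀ hw]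
    ring

theorem exists_frame (hee : B e e = 0) (hff : B f f = 0) (hef : B e f = 1) :
    ∃ h, IsFrame B e h f := by
  obtain ⟨v, hv⟩ : ∃ v, v ∉ Submodule.span k ({e, f} : Set W) := by
    by_contra hall
    push Not at hall
    have h1 : Submodule.span k ({e, f} : Set W) = ⊤ := Submodule.eq_top_iff'.2 hall
    classical
    have h2 := finrank_span_finset_le_card (R := k) ({e, f} : Finset W)
    rw [Finset.coe_pair, Set.finrank, h1, finrank_top, hB.dim] at h2
    exact absurd (h2.trans Finset.card_le_two) (by norm_num)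
  obtain ⟨h₀, hh₀⟩ : ∃ h₀, h₀ = v - B f v • e - B e v • f := ⟨_, rfl⟩
  have h0e : B e h₀ = 0 := by simp [hh₀, hee, hef]
  have h0f : B f h₀ = 0 := by simp [hh₀, hff, hB.symm f e, hef]
  have hne : h₀ ≠ 0 := fun h0 => hv (by
    rw [show v = B f v • e + B e v • f by rw [hh₀, sub_sub, sub_eq_zero] at h0; exact h0]
    exact add_mem (Submodule.smul_mem _ _ (Submodule.subset_span (by simp)))
      (Submodule.smul_mem _ _ (Submodule.subset_span (by simp))))
  have hhh : B h₀ h₀ ≠ 0 := by
    intro h00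
    have hli : LinearIndependent k ![e, h₀, f] := by
      rw [Fintype.linearIndependent_iff]
      intro g hg
      simp only [Fin.sum_univ_three, Matrix.cons_val_zero, Matrix.cons_val_one, Matrix.cons_val]
        at hg
      have a0 := congrArg (B f) hg
      have a2 := congrArg (B e) hg
      simp only [map_add, map_smul, map_zero, hB.symm f e, hee, hff, hef, h0e, h0f, smul_eq_mul,
        mul_zero, mul_one, zero_add, add_zero] at a0 a2
      rw [a0, a2, zero_smul, zero_smul, zero_add, add_zero, smul_eq_zero] at hg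
      have a1 := hg.resolve_right hne
      intro i
      fin_cases i <;> assumption
    refine hne (hB.nondeg h₀ fun u => ?_)
    rw [← (basisOfLinearIndependentOfCardEqFinrank hli (by rw [hB.dim]; rfl)).sum_repr u]
    simp [Fin.sum_univ_three, h00, h0e, h0f]
  obtain ⟨s, hs⟩ := IsAlgClosed.exists_pow_nat_eq (B h₀ h₀) (n := 2) two_pos
  have hs0 : s ≠ 0 := fun h => hhh (by rw [← hs, h]; simp)
  refine ⟨s⁻¹ • h₀, hee, hff, hef, ?_, by simp [h0e], by simp [h0f]⟩
  simp only [map_smul, LinearMap.smul_apply, smul_eq_mul, ← hs]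
  field_simp

theorem exists_frame_at (he : e ≠ 0) (hee : B e e = 0) : ∃ h f, IsFrame B e h f := by
  obtain ⟨f, hff, hef⟩ := exists_partner hB he hee
  obtain ⟨h, hF⟩ := exists_frame hB hee hff hef
  exact ⟨h, f, hF⟩

theorem mem_line_of_orth {v : W} (he : e ≠ 0) (hee : B e e = 0) (hvv : B v v = 0)
    (hev : B e v = 0) : ∃ a : k, v = a • e := by
  obtain ⟨h, f, F⟩ := exists_frame_at hB he hee
  refine ⟨B f v, ?_⟩
  have hv := IsFrame.expand hB F v
  rw [hev, zero_smul, add_zero] at hv
  have h1 : B h v = 0 := by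
    have h2 := hvv
    rw [hv] at h2
    simp [hB.symm h e, F.ee, F.eh, F.hh] at h2
    exact h2
  rw [h1, zero_smul, add_zero] at hv
  exact hv

theorem exists_frame_pair {a b : W} (ha : a ≠ 0) (haa : B a a = 0) (hb : b ≠ 0) (hbb : B b b = 0)
    (hne : ∀ r : k, b ≠ r • a) : ∃ h f, IsFrame B a h f ∧ ∃ r : k, r ≠ 0 ∧ b = r • f := by
  have hab : B a b ≠ 0 := fun h => by
    obtain ⟨r, hr⟩ := mem_line_of_orth hB ha haa hbb h
    exact hne r hr
  obtain ⟨h, hF⟩ := exists_frame hB (e := a) (f := (B a b)⁻¹ • b) haa (by simp [hbb])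
    (by simp [hab])
  exact ⟨h, _, hF, B a b, hab, by rw [smul_inv_smul₀ hab]⟩

/-- An isometry of determinant one fixing an isotropic line in terms of a frame. -/
theorem borel_form (F : IsFrame B e h f) {g : Module.End k W} (hg : IsSO B g) {l : k}
    (hl : g e = l • e) :
    l ≠ 0 ∧ g h = h + B f (g h) • e ∧
      g f = l⁻¹ • (f - B f (g h) • h - (B f (g h) * B f (g h) / 2) • e) := by
  obtain ⟨hiso, hdet⟩ := hg
  have hl0 : l ≠ 0 := by
    intro h0
    have h1 := hiso e f
    rw [hl, h0, zero_smul, map_zero, LinearMap.zero_apply, F.ef] at h1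
    exact zero_ne_one h1
  have heh : B e (g h) = 0 := by
    have h1 := hiso e h
    rw [hl, map_smul, LinearMap.smul_apply, F.eh, smul_eq_mul] at h1
    exact (mul_eq_zero.1 h1).resolve_left hl0
  have hef : B e (g f) = l⁻¹ := by
    have h1 := hiso e f
    rw [hl, map_smul, LinearMap.smul_apply, F.ef, smul_eq_mul] at h1
    exact eq_inv_of_mul_eq_one_right h1
  have hee : B e (g e) = 0 := by rw [hl, map_smul, F.ee, smul_zero]
  have hhe : B h (g e) = 0 := by rw [hl, map_smul, hB.symm, F.eh, smul_zero]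
  have hfe : B f (g e) = l := by rw [hl, map_smul, hB.symm, F.ef, smul_eq_mul, mul_one]
  have hd : B h (g h) = 1 := by
    have hM := LinearMap.det_toMatrix (IsFrame.basis hB F) g
    rw [hdet, Matrix.det_fin_three] at hM
    simp only [LinearMap.toMatrix_apply, IsFrame.repr_apply, IsFrame.basis_coe,
      Matrix.cons_val_zero, Matrix.cons_val_one, Matrix.cons_val, hee, hhe, hfe, heh, hef] at hM
    have h2 : l * B h (g h) * l⁻¹ = 1 := by linear_combination hM
    rwa [mul_comm l, mul_assoc, mul_inv_cancel₀ hl0, mul_one] at h2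
  have hgh : g h = h + B f (g h) • e := by
    conv_lhs => rw [IsFrame.expand hB F (g h)]
    rw [heh, hd, zero_smul, add_zero, one_smul, add_comm]
  refine ⟨hl0, hgh, ?_⟩
  set t := B f (g h) with ht
  have hgf := IsFrame.expand hB F (g f)
  rw [hef] at hgf
  have h1 := hiso h f
  rw [hgh, hB.symm h f, F.fh, map_add, LinearMap.add_apply, map_smul, LinearMap.smul_apply, hef,
    smul_eq_mul] at h1
  have hhf : B h (g f) = -(t * l⁻¹) := by linear_combination h1
  have h2 := hiso f f
  rw [F.ff, hgf, hhf] at h2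
  simp only [map_add, map_smul, LinearMap.add_apply, LinearMap.smul_apply, smul_eq_mul, F.ee, F.ff,
    F.hh, F.ef, F.eh, F.fh, hB.symm f e, hB.symm h e, hB.symm h f] at h2
  have hfg : B f (g f) = -(t * t / 2) * l⁻¹ := by
    have := hB.two
    have h3 : B f (g f) * 2 * l⁻¹ = -(t * t) * l⁻¹ * l⁻¹ := by linear_combination h2
    have h4 := mul_right_cancel₀ (inv_ne_zero hl0) h3
    field_simp at h4 ⊢
    linear_combination h4
  rw [hgf, hhf, hfg, smul_sub, smul_sub, smul_smul, smul_smul]
  module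

theorem eq_of_frame (F : IsFrame B e h f) {g g' : Module.End k W} (hg : IsSO B g)
    (hg' : IsSO B g') {l : k} (hl : g e = l • e) (hl' : g' e = l • e)
    (ht : B f (g h) = B f (g' h)) : g = g' := by
  obtain ⟨-, a1, a2⟩ := borel_form hB F hg hl
  obtain ⟨-, b1, b2⟩ := borel_form hB F hg' hl'
  refine (IsFrame.basis hB F).ext fun i => ?_
  rw [IsFrame.basis_coe]
  fin_cases i
  · show g e = g' e
    rw [hl, hl']
  · show g h = g' h
    rw [a1, b1, ht]
  · show g f = g' f
    rw [a2, b2, ht]

theorem frame_mul (F : IsFrame B e h f) {g g' : Module.End k W} (hg : IsSO B g)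
    (hg' : IsSO B g') {l l' : k} (hl : g e = l • e) (hl' : g' e = l' • e) :
    (g * g') e = (l * l') • e ∧ B f ((g * g') h) = B f (g h) + B f (g' h) * l := by
  obtain ⟨-, a1, -⟩ := borel_form hB F hg hl
  obtain ⟨-, b1, -⟩ := borel_form hB F hg' hl'
  refine ⟨by rw [Module.End.mul_apply, hl', map_smul, hl, smul_smul, mul_comm], ?_⟩
  conv_lhs => rw [Module.End.mul_apply, b1, map_add, map_smul, hl, a1]
  simp [map_add, map_smul, F.fh, hB.symm f e, F.ef]

theorem isSO_one : IsSO B (1 : Module.End k W) := ⟨fun _ _ => rfl, map_one _⟩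

theorem isSO_mul {g g' : Module.End k W} (hg : IsSO B g) (hg' : IsSO B g') : IsSO B (g * g') :=
  ⟨fun u v => by rw [Module.End.mul_apply, Module.End.mul_apply, hg.1, hg'.1],
    by rw [map_mul, hg.2, hg'.2, one_mul]⟩

theorem unipotent_pow (F : IsFrame B e h f) {g : Module.End k W} (hg : IsSO B g)
    (hl : g e = e) (j : ℕ) :
    IsSO B (g ^ j) ∧ (g ^ j) e = e ∧ B f ((g ^ j) h) = j * B f (g h) := by
  induction j with
  | zero => exact ⟨by rw [pow_zero]; exact isSO_one hB, by simp, by simp [F.fh]⟩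
  | succ j ih =>
    obtain ⟨h1, h2⟩ := frame_mul hB F ih.1 hg (l := 1) (l' := 1) (by rw [one_smul]; exact ih.2.1)
      (by rw [one_smul]; exact hl)
    refine ⟨by rw [pow_succ]; exact isSO_mul hB ih.1 hg, by rw [pow_succ, h1]; simp, ?_⟩
    rw [pow_succ, h2, ih.2.2, Nat.cast_succ]
    ring

theorem pow_char_eq_one (F : IsFrame B e h f) {p : ℕ} [CharP k p] {g : Module.End k W}
    (hg : IsSO B g) (hl : g e = e) : g ^ p = 1 := by
  obtain ⟨h1, h2, h3⟩ := unipotent_pow hB F hg hl p
  rw [CharP.cast_eq_zero k p, zero_mul] at h3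
  exact eq_of_frame hB F h1 (isSO_one hB) (l := 1) (by rw [one_smul]; exact h2) (by simp)
    (by rw [h3]; simp [F.fh])

theorem lambda_eq_one {p : ℕ} [Fact p.Prime] [CharP k p] {g : Module.End k W} (he : e ≠ 0) {l : k}
    (hl : g e = l • e) (hp : g ^ p = 1) : l = 1 := by
  have h1 : ∀ j : ℕ, (g ^ j) e = l ^ j • e := fun j => by
    induction j with
    | zero => simp
    | succ j ih => rw [pow_succ', Module.End.mul_apply, ih, map_smul, hl, smul_smul, ← pow_succ]
  have h2 := h1 p
  rw [hp, Module.End.one_apply] at h2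
  have h3 : l ^ p = 1 := by
    by_contra h
    have h4 : (l ^ p - 1) • e = 0 := by rw [sub_smul, ← h2, one_smul, sub_self]
    exact h (sub_eq_zero.1 ((smul_eq_zero.1 h4).resolve_right he))
  have h5 : (l - 1) ^ p = 0 := by rw [sub_pow_char, one_pow, h3, sub_self]
  exact sub_eq_zero.1 (eq_zero_of_pow_eq_zero h5)

theorem exists_iso_vec {u w : W} (hli : LinearIndependent k ![u, w]) :
    ∃ v ∈ Submodule.span k ({u, w} : Set W), v ≠ 0 ∧ B v v = 0 := by
  have hw : w ≠ 0 := hli.ne_zero 1
  by_cases hww : B w w = 0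
  · exact ⟨w, Submodule.subset_span (by simp), hw, hww⟩
  obtain ⟨s, hs⟩ := IsAlgClosed.exists_pow_nat_eq (B u w * B u w - B u u * B w w) (n := 2) two_pos
  refine ⟨u + ((s - B u w) / B w w) • w, add_mem (Submodule.subset_span (by simp))
    (Submodule.smul_mem _ _ (Submodule.subset_span (by simp))), fun h0 => ?_, ?_⟩
  · exact one_ne_zero (LinearIndependent.pair_iff.1 hli 1 _ (by rw [one_smul]; exact h0)).1
  · simp only [map_add, map_smul, LinearMap.add_apply, LinearMap.smul_apply, smul_eq_mul,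
      hB.symm w u]
    field_simp
    linear_combination hs

/-- Every element of `SO₃` fixes an isotropic line. -/
theorem exists_fixed_line {g : Module.End k W} (hg : IsSO B g) :
    ∃ v, v ≠ 0 ∧ B v v = 0 ∧ ∃ l : k, g v = l • v := by
  haveI : Nontrivial W := Module.nontrivial_of_finrank_eq_succ hB.dim
  obtain ⟨μ, hμ⟩ := Module.End.exists_eigenvalue g
  obtain ⟨v, hv⟩ := hμ.exists_hasEigenvector
  have hgv : g v = μ • v := hv.apply_eq_smul
  have hv0 : v ≠ 0 := hv.2
  by_cases hvv : B v v = 0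
  · exact ⟨v, hv0, hvv, μ, hgv⟩
  -- a hyperbolic pair orthogonal to `v`
  have hμ2 : μ * μ = 1 := by
    have h1 := hg.1 v v
    rw [hgv, map_smul, map_smul, LinearMap.smul_apply, smul_eq_mul, smul_eq_mul, ← mul_assoc] at h1
    exact (mul_eq_right₀ hvv).1 h1
  have hker : finrank k (LinearMap.ker (B v)) = 2 := by
    have h1 := LinearMap.finrank_range_add_finrank_ker (B v)
    rw [LinearMap.range_eq_top.2 (fun c => ⟨(c / B v v) • v, by simp [hvv]⟩), finrank_top,
      Module.finrank_self, hB.dim] at h1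
    omega
  obtain ⟨bs⟩ : Nonempty (Basis (Fin 2) k (LinearMap.ker (B v))) := ⟨Module.finBasisOfFinrankEq _ _ hker⟩
  have hli : LinearIndependent k ![(bs 0 : W), (bs 1 : W)] := by
    have := bs.linearIndependent.map' (LinearMap.ker (B v)).subtype (Submodule.ker_subtype _)
    have hfun : (LinearMap.ker (B v)).subtype ∘ ⇑bs = ![(bs 0 : W), (bs 1 : W)] := by
      funext i; fin_cases i <;> rfl
    rwa [hfun] at this
  obtain ⟨e, hes, he0, hee⟩ := exists_iso_vec hB hli
  have hve : B v e = 0 := by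
    rw [Submodule.mem_span_pair] at hes
    obtain ⟨a, b, rfl⟩ := hes
    simp [LinearMap.mem_ker.1 (bs 0).2, LinearMap.mem_ker.1 (bs 1).2]
  obtain ⟨f₀, hf₀, hef₀⟩ := exists_partner hB he0 hee
  obtain ⟨f, hf⟩ : ∃ f, f = f₀ - (B v f₀ / B v v) • v -
      ((B v f₀ * B v f₀ / B v v) * (-1 / 2)) • e := ⟨_, rfl⟩
  have hvf : B v f = 0 := by
    rw [hf]; simp [hve]; field_simp; ring
  have hff : B f f = 0 := by
    rw [hf]
    simp only [map_sub, map_smul, LinearMap.sub_apply, LinearMap.smul_apply, smul_eq_mul, hf₀, hee,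
      hef₀, hve, hB.symm e v, hB.symm f₀ e, hB.symm f₀ v]
    have := hB.two
    field_simp
    ring
  have hef : B e f = 1 := by
    rw [hf]; simp [hB.symm e v, hve, hee, hef₀]
  obtain ⟨h, F⟩ := exists_frame hB hee hff hef
  -- `g` preserves the plane
  have hperp : ∀ w, B v w = 0 → B v (g w) = 0 := fun w hw => by
    have h1 := hg.1 v w
    rw [hgv, map_smul, LinearMap.smul_apply, hw, smul_eq_mul] at h1
    exact (mul_eq_zero.1 h1).resolve_left (left_ne_zero_of_mul (by rw [hμ2]; exact one_ne_zero))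
  have hvh : v = B h v • h := by
    conv_lhs => rw [IsFrame.expand hB F v]
    rw [hB.symm f v, hvf, hB.symm e v, hve]; simp
  have hhv : B h v ≠ 0 := fun h0 => hv0 (by rw [hvh, h0, zero_smul])
  have hplane : ∀ w, B v w = 0 → w = B f w • e + B e w • f := fun w hw => by
    conv_lhs => rw [IsFrame.expand hB F w]
    have h1 : B h w = 0 := by
      rw [hvh, map_smul, LinearMap.smul_apply, smul_eq_mul] at hw
      exact (mul_eq_zero.1 hw).resolve_left hhv
    rw [h1, zero_smul, add_zero]
  have hge := hplane _ (hperp e hve)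
  have h2 := hg.1 e e
  rw [hge, hee] at h2
  simp only [map_add, map_smul, LinearMap.add_apply, LinearMap.smul_apply, smul_eq_mul, hee, hff,
    hef, hB.symm f e] at h2
  have hprod : B f (g e) * B e (g e) = 0 := by
    have h3 : (B f (g e) * B e (g e)) * 2 = 0 := by linear_combination h2
    exact (mul_eq_zero.1 h3).resolve_right hB.two
  rcases mul_eq_zero.1 hprod with h0 | h0
  swap
  · exact ⟨e, he0, hee, B f (g e), by conv_lhs => rw [hge, h0, zero_smul, add_zero]⟩
  -- the swap
  rw [h0, zero_smul, zero_add] at hge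
  set ν := B e (g e) with hν
  have hν0 : ν ≠ 0 := fun hz => by
    have := hg.1 e f
    rw [hge, hz, zero_smul, map_zero, LinearMap.zero_apply, hef] at this
    exact zero_ne_one this
  have hgf := hplane _ (hperp f hvf)
  have h4 := hg.1 e f
  rw [hge, hgf, hef] at h4
  simp only [map_add, map_smul, LinearMap.smul_apply, smul_eq_mul, hff, hB.symm f e, hef] at h4
  have h5 := hg.1 f f
  rw [hgf, hff] at h5
  simp only [map_add, map_smul, LinearMap.add_apply, LinearMap.smul_apply, smul_eq_mul, hee, hff,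
    hef, hB.symm f e] at h5
  have h6 : B e (g f) = 0 := by
    have h7 : B e (g f) * (B f (g f) * 2) = 0 := by linear_combination h5
    refine (mul_eq_zero.1 h7).resolve_right (mul_ne_zero (fun hz => ?_) hB.two)
    rw [hz] at h4
    simp at h4
  rw [h6, zero_smul, add_zero] at hgf
  have hνν : ν * B f (g f) = 1 := by linear_combination h4
  obtain ⟨ρ', hρ'⟩ : ∃ r, r = B f (g f) := ⟨_, rfl⟩
  rw [← hρ'] at hgf hνν
  have hdet := hg.2
  have hM := LinearMap.det_toMatrix (IsFrame.basis hB F) g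
  have hghh : B h (g h) = μ := by
    have : g h = μ • h := by
      have h8 := hgv
      rw [hvh, map_smul, smul_smul, mul_comm, ← smul_smul] at h8
      exact smul_right_injective W hhv h8
    rw [this, map_smul, F.hh, smul_eq_mul, mul_one]
  have hgh' : g h = μ • h := by
    have h8 := hgv
    rw [hvh, map_smul, smul_smul, mul_comm, ← smul_smul] at h8
    exact smul_right_injective W hhv h8
  rw [hdet, Matrix.det_fin_three] at hM
  simp only [LinearMap.toMatrix_apply, IsFrame.repr_apply, IsFrame.basis_coe,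
      Matrix.cons_val_zero, Matrix.cons_val_one, Matrix.cons_val, hge, hgf, hghh, map_smul,
      smul_eq_mul, F.ee, F.ff, F.eh, F.fh, F.hh, hB.symm h e, hB.symm h f, hB.symm f e, F.ef,
      hgh', Finsupp.smul_apply] at hM
  have hμ1 : μ = -1 := by linear_combination (-1 : k) * hM - μ * hνν
  -- the minus one eigenspace contains an isotropic vector
  obtain ⟨s, hs⟩ := IsAlgClosed.exists_pow_nat_eq (2 * ν) (n := 2) two_pos
  refine ⟨s • h + (e - ν • f), fun hz => ?_, ?_, -1, ?_⟩
  · have := congrArg (B f) hz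
    simp [F.fh, hB.symm f e, F.ef, F.ff] at this
  · simp only [map_add, map_sub, map_smul, LinearMap.add_apply, LinearMap.sub_apply,
      LinearMap.smul_apply, smul_eq_mul, F.ee, F.ff, F.ef, F.eh, F.fh, F.hh, hB.symm h e,
      hB.symm h f, hB.symm f e]
    linear_combination hs
  · simp only [map_add, map_sub, map_smul, hge, hgf, hgh', hμ1, smul_smul]
    match_scalars <;> first | ring1 | linear_combination -hνν | linear_combination hνν

end Frame

/-- The isotropic lines. -/
def IsoLines (B : W →ₗ[k] W →ₗ[k] k) : Set (Submodule k W) :=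
  {a | ∃ v, v ≠ 0 ∧ B v v = 0 ∧ a = Submodule.span k {v}}

theorem map_line_eq_iff {g : Module.End k W} {v : W} (hg : g v ≠ 0) :
    (Submodule.span k {v}).map g = Submodule.span k {v} ↔ ∃ l : k, g v = l • v := by
  rw [Submodule.map_span, Set.image_singleton]
  constructor
  · intro h
    obtain ⟨l, hl⟩ := Submodule.mem_span_singleton.1 (h ▸ Submodule.mem_span_singleton_self (g v))
    exact ⟨l, hl.symm⟩
  · rintro ⟨l, hl⟩
    rw [hl]
    exact Submodule.span_singleton_smul_eq (isUnit_iff_ne_zero.2 fun h => hg (by rw [hl, h, zero_smul])) _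

include hB in
/-- A finite group of isometries with Sylow subgroups of order `p`, with the data of the case
`PSL₂(p)` or `PGL₂(p)`. -/
theorem conic' {p : ℕ} [Fact p.Prime] [CharP k p] {H : Type*} [Group H] [Finite H]
    (φ : H →* Module.End k W) (hφ : Function.Injective φ) (hSO : ∀ g, IsSO B (φ g))
    (hp5 : 5 ≤ p) {x : H} (hx : orderOf x = p) (hsq : ¬ p ^ 2 ∣ Nat.card H) :
    (∀ y : H, y ^ p = 1 → y ∈ Subgroup.zpowers x) ∨
      ∃ (A : Finset (ZMod p)) (e : ℕ) (u : W) (g₀ : H), (e = p - 1 ∨ 2 * e = p - 1) ∧ e ≤ A.card ∧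
        (∀ a ∈ A, ∃ s : H, s * x * s⁻¹ = x ^ a.val) ∧ Nat.card H = p * e * (p + 1) ∧
        u ≠ 0 ∧ B u u = 0 ∧ φ x u = u ∧ (∀ r : k, φ g₀ u ≠ r • u) ∧
        ∀ g : H, (∃ r : k, φ g u = r • u) ∨ ∃ (i : ℕ) (r : k), φ g u = r • φ (x ^ i * g₀) u := by
  classical
  haveI := Fintype.ofFinite H
  have hP := Fact.out (p := p.Prime)
  have hinvl : ∀ g : H, φ g⁻¹ * φ g = 1 := fun g => by rw [← map_mul, inv_mul_cancel, map_one]
  have hgne : ∀ (g : H) {v : W}, v ≠ 0 → φ g v ≠ 0 := fun g v hv h => hv (by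
    rw [← Module.End.one_apply (R := k) v, ← hinvl g, Module.End.mul_apply, h, map_zero])
  have hfix : ∀ (g : H) {v : W}, v ≠ 0 →
      ((Submodule.span k {v}).map (φ g) = Submodule.span k {v} ↔ ∃ l : k, φ g v = l • v) :=
    fun g v hv => map_line_eq_iff (hgne g hv)
  have hmapIso : ∀ (g : H), ∀ a ∈ IsoLines B, a.map (φ g) ∈ IsoLines B := by
    rintro g _ ⟨v, hv, hvv, rfl⟩
    exact ⟨φ g v, hgne g hv, by rw [(hSO g).1]; exact hvv,
      by rw [Submodule.map_span, Set.image_singleton]⟩
  have hone : ∀ a : Submodule k W, a.map (φ 1) = a := fun a => by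
    rw [map_one, Module.End.one_eq_id, Submodule.map_id]
  have hcomp : ∀ (g g' : H) (a : Submodule k W), a.map (φ (g * g')) = (a.map (φ g')).map (φ g) :=
    fun g g' a => by rw [map_mul, Module.End.mul_eq_comp, Submodule.map_comp]
  -- lines fixed by the two given ones and a third
  have hsharp : ∀ (g : H) (a b c : Submodule k W), a ∈ IsoLines B → b ∈ IsoLines B →
      c ∈ IsoLines B → a ≠ b → a ≠ c → b ≠ c → a.map (φ g) = a → b.map (φ g) = b →
      c.map (φ g) = c → g = 1 := by
    rintro g _ _ _ ⟨u, hu, huu, rfl⟩ ⟨v, hv, hvv, rfl⟩ ⟨w, hw, hww, rfl⟩ hab hac hbc hga hgb hgc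
    obtain ⟨h, f, F, r, hr, rfl⟩ := exists_frame_pair hB hu huu hv hvv (fun r hr => hab (by
      rw [hr]; exact (Submodule.span_singleton_smul_eq (isUnit_iff_ne_zero.2 fun h0 => hv (by
        rw [hr, h0, zero_smul])) _).symm))
    obtain ⟨l, hl⟩ := (hfix g hu).1 hga
    obtain ⟨l₂, hl₂⟩ := (hfix g hv).1 hgb
    obtain ⟨μ, hμ⟩ := (hfix g hw).1 hgc
    obtain ⟨hl0, hgh, hgf⟩ := borel_form hB F (hSO g) hl
    rw [map_smul, smul_comm] at hl₂
    have hl₂' := smul_right_injective W hr hl₂
    have ht : B f (φ g h) = 0 := by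
      have h1 := congrArg (B h) hl₂'
      rw [hgf] at h1
      simp [hB.symm h f, hB.symm h u, F.fh, F.eh, F.hh, hl0] at h1
      exact h1
    rw [ht] at hgh hgf
    simp only [zero_smul, add_zero, sub_zero, mul_zero, zero_div] at hgh hgf
    have hw' := IsFrame.expand hB F w
    set α := B f w with hα
    set β := B h w with hβ
    set γ := B u w with hγ
    have hww' := hww
    rw [hw'] at hww'
    simp only [map_add, map_smul, LinearMap.add_apply, LinearMap.smul_apply, smul_eq_mul, F.ee,
      F.ff, F.ef, F.eh, F.fh, F.hh, hB.symm f u, hB.symm h u, hB.symm h f] at hww'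
    have hβ0 : β ≠ 0 := by
      intro h0
      have h1 : α * γ * 2 = 0 := by rw [h0] at hww'; linear_combination hww'
      rcases mul_eq_zero.1 ((mul_eq_zero.1 h1).resolve_right hB.two) with h2 | h2
      · rw [h2, h0, zero_smul, zero_smul, zero_add, zero_add] at hw'
        refine hbc ?_
        have hγ0 : γ ≠ 0 := fun h3 => hw (by rw [hw', h3, zero_smul])
        rw [hw', Submodule.span_singleton_smul_eq (isUnit_iff_ne_zero.2 hr),
          Submodule.span_singleton_smul_eq (isUnit_iff_ne_zero.2 hγ0)]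
      · rw [h2, h0, zero_smul, zero_smul, add_zero, add_zero] at hw'
        refine hac ?_
        rw [hw', Submodule.span_singleton_smul_eq (isUnit_iff_ne_zero.2 fun h3 => hw (by
          rw [hw', h3, zero_smul]))]
    have hα0 : α ≠ 0 := fun h0 => hβ0 (by
      rw [h0] at hww'
      exact mul_self_eq_zero.1 (by linear_combination hww'))
    have hμ1 := congrArg (B h) hμ
    have hμ2 := congrArg (B f) hμ
    rw [hw'] at hμ1 hμ2
    simp only [map_add, map_smul, hl, hgh, hgf, smul_eq_mul, F.ee, F.ff, F.ef, F.eh, F.fh, F.hh,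
      hB.symm f u, hB.symm h u, hB.symm h f] at hμ1 hμ2
    have hμone : μ = 1 := mul_right_cancel₀ hβ0 (by linear_combination -hμ1)
    subst hμone
    have hlone : l = 1 := mul_right_cancel₀ hα0 (by linear_combination hμ2)
    subst hlone
    refine hφ ((eq_of_frame hB F (hSO g) (isSO_one hB) (l := 1) hl (by simp) ?_).trans
      (map_one φ).symm)
    rw [ht, Module.End.one_apply, F.fh]
  have huniq : ∀ (g : H) (a b : Submodule k W), a ∈ IsoLines B → b ∈ IsoLines B → g ≠ 1 →
      g ^ p = 1 → a.map (φ g) = a → b.map (φ g) = b → a = b := by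
    rintro g _ _ ⟨u, hu, huu, rfl⟩ ⟨v, hv, hvv, rfl⟩ hg1 hgp hga hgb
    by_contra hab
    obtain ⟨h, f, F, r, hr, rfl⟩ := exists_frame_pair hB hu huu hv hvv (fun r hr => hab (by
      rw [hr]; exact (Submodule.span_singleton_smul_eq (isUnit_iff_ne_zero.2 fun h0 => hv (by
        rw [hr, h0, zero_smul])) _).symm))
    obtain ⟨l, hl⟩ := (hfix g hu).1 hga
    obtain ⟨l₂, hl₂⟩ := (hfix g hv).1 hgb
    have hl1 : l = 1 := lambda_eq_one hB (p := p) hu hl (by rw [← map_pow, hgp, map_one])
    obtain ⟨hl0, hgh, hgf⟩ := borel_form hB F (hSO g) hl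
    rw [map_smul, smul_comm] at hl₂
    have hl₂' := smul_right_injective W hr hl₂
    have h1 := congrArg (B h) hl₂'
    rw [hgf] at h1
    simp [hB.symm h f, hB.symm h u, F.fh, F.eh, F.hh, hl0] at h1
    subst hl1
    exact hg1 (hφ ((eq_of_frame hB F (hSO g) (isSO_one hB) (l := 1) hl (by simp)
      (by rw [h1, Module.End.one_apply, F.fh])).trans (map_one φ).symm))
  have hother : ∀ (g : H) (a : Submodule k W), a ∈ IsoLines B → g ^ p ≠ 1 → a.map (φ g) = a →
      ∃ b ∈ IsoLines B, b ≠ a ∧ b.map (φ g) = b := by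
    rintro g _ ⟨u, hu, huu, rfl⟩ hgp hga
    obtain ⟨l, hl⟩ := (hfix g hu).1 hga
    obtain ⟨h, f, F⟩ := exists_frame_at hB hu huu
    obtain ⟨hl0, hgh, hgf⟩ := borel_form hB F (hSO g) hl
    set t := B f (φ g h) with ht
    by_cases hl1 : l = 1
    · subst hl1
      refine absurd (hφ ?_) hgp
      rw [map_pow, map_one]
      exact pow_char_eq_one hB F (hSO g) (by rw [hl, one_smul])
    obtain ⟨z, hz⟩ : ∃ z, z * (l - 1) = t :=
      ⟨t / (l - 1), div_mul_cancel₀ _ (sub_ne_zero.2 hl1)⟩
    have hb0 : f + z • h - (z * z / 2) • u ≠ 0 := fun h0 => by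
      have := congrArg (B u) h0
      simp [F.ef, F.eh, F.ee] at this
    refine ⟨_, ⟨f + z • h - (z * z / 2) • u, hb0, ?_, rfl⟩, fun hab => ?_, ?_⟩
    · simp only [map_add, map_sub, map_smul, LinearMap.add_apply, LinearMap.sub_apply,
        LinearMap.smul_apply, smul_eq_mul, F.ee, F.ff, F.ef, F.eh, F.fh, F.hh, hB.symm f u,
        hB.symm h u, hB.symm h f]
      have := hB.two
      field_simp
      ring
    · obtain ⟨c, hc⟩ := Submodule.mem_span_singleton.1
        (hab ▸ Submodule.mem_span_singleton_self (f + z • h - (z * z / 2) • u))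
      have := congrArg (B u) hc
      simp [F.ef, F.eh, F.ee] at this
    · refine (hfix g hb0).2 ⟨l⁻¹, ?_⟩
      rw [map_sub, map_add, map_smul, map_smul, hl, hgh, hgf, ← hz]
      have := hB.two
      match_scalars <;> field_simp <;> ring
  -- the finite space of points
  let S : Set (Submodule k W) := {a | a ∈ IsoLines B ∧ ∃ g : H, g ≠ 1 ∧ a.map (φ g) = a}
  have hfin : S.Finite := by
    have hsub : S ⊆ ⋃ g ∈ {g : H | g ≠ 1}, {a | a ∈ IsoLines B ∧ a.map (φ g) = a} := by
      rintro a ⟨ha, g, hg, hga⟩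
      exact Set.mem_biUnion hg ⟨ha, hga⟩
    refine Set.Finite.subset ?_ hsub
    refine Set.Finite.biUnion (Set.toFinite _) fun g hg => ?_
    by_contra hinf
    obtain ⟨T, hT, hTc⟩ := Set.Infinite.exists_subset_card_eq (fun h => hinf h) 3
    obtain ⟨a, b, c, hab, hac, hbc, rfl⟩ := Finset.card_eq_three.1 hTc
    simp only [Finset.coe_insert, Finset.coe_singleton, Set.insert_subset_iff,
      Set.singleton_subset_iff] at hT
    exact hg (hsharp g a b c hT.1.1 hT.2.1.1 hT.2.2.1 hab hac hbc hT.1.2 hT.2.1.2 hT.2.2.2)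
  haveI : Finite S := hfin.to_subtype
  have hS : ∀ g : H, ∀ a ∈ S, a.map (φ g) ∈ S := by
    rintro g a ⟨ha, g', hg', hfa⟩
    refine ⟨hmapIso g a ha, g * g' * g⁻¹, fun h => hg' (conj_eq_one_iff.1 h), ?_⟩
    rw [hcomp, hcomp, ← hcomp g⁻¹ g, inv_mul_cancel, hone, hfa]
  letI : MulAction H S :=
    { smul := fun g a => ⟨a.1.map (φ g), hS g a.1 a.2⟩
      one_smul := fun a => Subtype.ext (hone a.1)
      mul_smul := fun g g' a => Subtype.ext (hcomp g g' a.1) }
  have hsm : ∀ (g : H) (a : S), g • a = a ↔ a.1.map (φ g) = a.1 := fun g a =>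
    ⟨fun h => congrArg Subtype.val h, fun h => Subtype.ext h⟩
  have hval : ∀ {a b : S}, a ≠ b → a.1 ≠ b.1 := fun h e => h (Subtype.ext e)
  have hlam1 : ∀ (g : H) (u : W), u ≠ 0 → ∀ l : k, φ g u = l • u → g ^ p = 1 → l = 1 :=
    fun g u hu l hl hgp => lambda_eq_one hB (p := p) hu hl (by rw [← map_pow, hgp, map_one])
  have hP1 : CfsgLib.PSL2.P1Like p H S := by
    refine ⟨fun {g a b c} h1 h2 h3 ha hb hc => hsharp g a.1 b.1 c.1 a.2.1 b.2.1 c.2.1 (hval h1)
        (hval h2) (hval h3) ((hsm _ _).1 ha) ((hsm _ _).1 hb) ((hsm _ _).1 hc),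
      fun {g a b} hg hgp ha hb => Subtype.ext (huniq g a.1 b.1 a.2.1 b.2.1 hg hgp
        ((hsm _ _).1 ha) ((hsm _ _).1 hb)),
      fun {g a} hgp ha => ?_, fun {a b} hab => ?_, fun {g a b} hab h1 h2 => ?_,
      fun {g g' a} hgp hgp' ha ha' => ?_, fun {g g' a} ha ha' => ?_⟩
    · obtain ⟨b, hb, hne, hfb⟩ := hother g a.1 a.2.1 hgp ((hsm _ _).1 ha)
      refine ⟨⟨b, hb, g, fun h => hgp (by rw [h, one_pow]), hfb⟩, fun h => hne ?_,
        (hsm _ _).2 hfb⟩
      exact congrArg Subtype.val h
    · obtain ⟨u, hu, huu, hau⟩ := a.2.1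
      have hex : ∀ g : ↥(stabilizer H a ⊓ stabilizer H b), ∃ l : k, φ (g : H) u = l • u := fun g =>
        (hfix g hu).1 (by rw [← hau]; exact (hsm _ _).1 g.2.1)
      choose L hL using hex
      have hLinj : ∀ g g', L g = L g' → g = g' := fun g g' h => by
        refine Subtype.ext ?_
        obtain ⟨v, hv, hvv, hbv⟩ := b.2.1
        obtain ⟨h', f, F, r, hr, rfl⟩ := exists_frame_pair hB hu huu hv hvv (fun r hr => hval hab (by
          rw [hau, hbv, hr]; exact (Submodule.span_singleton_smul_eq (isUnit_iff_ne_zero.2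
            fun h0 => hv (by rw [hr, h0, zero_smul])) _).symm))
        have ht : ∀ q : ↥(stabilizer H a ⊓ stabilizer H b), B f (φ (q : H) h') = 0 := fun q => by
          obtain ⟨l₂, hl₂⟩ := (hfix (q : H) hv).1 (by rw [← hbv]; exact (hsm _ _).1 q.2.2)
          obtain ⟨hl0, -, hgf⟩ := borel_form hB F (hSO q) (hL q)
          rw [map_smul, smul_comm] at hl₂
          have h1 := congrArg (B h') (smul_right_injective W hr hl₂)
          rw [hgf] at h1
          simp [hB.symm h' f, hB.symm h' u, F.fh, F.eh, F.hh, hl0] at h1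
          exact h1
        exact hφ (eq_of_frame hB F (hSO g) (hSO g') (hL g) (h ▸ hL g') ((ht g).trans (ht g').symm))
      have hval' : ∀ r r' : k, r • u = r' • u → r = r' := fun r r' h =>
        smul_left_injective k hu h
      refine isCyclic_of_subgroup_isDomain (R := k)
        { toFun := L
          map_one' := hval' _ _ (by rw [← hL 1, OneMemClass.coe_one, map_one]; simp)
          map_mul' := fun g g' => hval' _ _ (by
            rw [← hL (g * g'), Subgroup.coe_mul, map_mul, Module.End.mul_apply, hL g', map_smul,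
              hL g, smul_smul, mul_comm]) } hLinj
    · obtain ⟨u, hu, huu, hau⟩ := a.2.1
      obtain ⟨v, hv, hvv, hbv⟩ := b.2.1
      have e1 : (Submodule.span k {u}).map (φ g) = Submodule.span k {v} := by
        rw [← hau, ← hbv]; exact congrArg Subtype.val h1
      have e2 : (Submodule.span k {v}).map (φ g) = Submodule.span k {u} := by
        rw [← hau, ← hbv]; exact congrArg Subtype.val h2
      obtain ⟨m₁, hm₁⟩ := Submodule.mem_span_singleton.1
        (e1 ▸ Submodule.mem_map_of_mem (Submodule.mem_span_singleton_self u) : φ g u ∈ _)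
      obtain ⟨m₂, hm₂⟩ := Submodule.mem_span_singleton.1
        (e2 ▸ Submodule.mem_map_of_mem (Submodule.mem_span_singleton_self v) : φ g v ∈ _)
      obtain ⟨h', f, F, r, hr, rfl⟩ := exists_frame_pair hB hu huu hv hvv (fun r hr => hval hab (by
        rw [hau, hbv, hr]; exact (Submodule.span_singleton_smul_eq (isUnit_iff_ne_zero.2
          fun h0 => hv (by rw [hr, h0, zero_smul])) _).symm))
      have hf' : φ g f = (r⁻¹ * m₂) • u := by
        rw [map_smul] at hm₂
        rw [mul_smul, hm₂, inv_smul_smul₀ hr]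
      rw [smul_smul] at hm₁
      have h12 := (hSO g).1 u f
      rw [← hm₁, hf'] at h12
      simp [hB.symm f u, F.ef] at h12
      have hw' := IsFrame.expand hB F (φ g h')
      have b1 : B f (φ g h') = 0 := by
        have := (hSO g).1 u h'
        rw [← hm₁, F.eh, map_smul, LinearMap.smul_apply, smul_eq_mul] at this
        exact (mul_eq_zero.1 this).resolve_left fun h0 => hgne g hu (by rw [← hm₁, h0, zero_smul])
      have b2 : B u (φ g h') = 0 := by
        have := (hSO g).1 f h'
        rw [hf', F.fh, map_smul, LinearMap.smul_apply, smul_eq_mul] at this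
        exact (mul_eq_zero.1 this).resolve_left fun h0 =>
          hgne g (show f ≠ 0 from fun h => hv (by rw [h, smul_zero])) (by rw [hf', h0, zero_smul])
      rw [b1, b2, zero_smul, zero_smul, zero_add, add_zero] at hw'
      have hsq : B h' (φ g h') * B h' (φ g h') = 1 := by
        have := (hSO g).1 h' h'
        rw [hw'] at this
        simpa [F.hh] using this
      apply hφ
      rw [map_mul, map_one]
      refine (IsFrame.basis hB F).ext fun i => ?_
      rw [IsFrame.basis_coe, Module.End.one_apply]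
      fin_cases i
      · show φ g (φ g u) = u
        rw [← hm₁, map_smul, hf', smul_smul]
        conv_rhs => rw [← one_smul k u]
        congr 1
        linear_combination h12
      · show φ g (φ g h') = h'
        generalize B h' (φ g h') = d at hw' hsq
        rw [hw', map_smul, hw', smul_smul, hsq, one_smul]
      · show φ g (φ g f) = f
        rw [hf', map_smul, ← hm₁, smul_smul]
        conv_rhs => rw [← one_smul k f]
        congr 1
        try linear_combination h12
    · obtain ⟨u, hu, huu, hau⟩ := a.2.1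
      obtain ⟨l, hl⟩ := (hfix g hu).1 (by rw [← hau]; exact (hsm _ _).1 ha)
      obtain ⟨l', hl'⟩ := (hfix g' hu).1 (by rw [← hau]; exact (hsm _ _).1 ha')
      have e1 := hlam1 g u hu l hl hgp
      have e2 := hlam1 g' u hu l' hl' hgp'
      subst e1 e2
      obtain ⟨h, f, F⟩ := exists_frame_at hB hu huu
      obtain ⟨m1, m2⟩ := frame_mul hB F (hSO g) (hSO g') hl hl'
      obtain ⟨n1, n2⟩ := frame_mul hB F (hSO g') (hSO g) hl' hl
      refine ⟨hφ ?_, hφ ?_⟩
      · rw [map_pow, map_mul, map_one]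
        exact pow_char_eq_one hB F (isSO_mul hB (hSO g) (hSO g')) (by rw [m1]; simp)
      · rw [map_mul, map_mul]
        exact eq_of_frame hB F (isSO_mul hB (hSO g) (hSO g')) (isSO_mul hB (hSO g') (hSO g))
          (l := 1) (by rw [m1]; simp) (by rw [n1]; simp) (by rw [m2, n2]; ring)
    · obtain ⟨u, hu, huu, hau⟩ := a.2.1
      obtain ⟨l, hl⟩ := (hfix g hu).1 (by rw [← hau]; exact (hsm _ _).1 ha)
      obtain ⟨l', hl'⟩ := (hfix g' hu).1 (by rw [← hau]; exact (hsm _ _).1 ha')
      obtain ⟨h, f, F⟩ := exists_frame_at hB hu huu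
      have hinv : ∀ (q : H) (r : k), φ q u = r • u → φ q⁻¹ u = r⁻¹ • u := by
        intro q r hr
        have hr0 : r ≠ 0 := fun h0 => hgne q hu (by rw [hr, h0, zero_smul])
        conv_lhs => rw [← inv_smul_smul₀ hr0 u, ← hr, map_smul, ← Module.End.mul_apply, hinvl,
          Module.End.one_apply]
      refine hφ ?_
      rw [map_pow, map_one]
      refine pow_char_eq_one hB F (hSO _) ?_
      simp only [map_mul, Module.End.mul_apply, hinv g' l' hl', hinv g l hl, map_smul, hl, hl',
        smul_smul]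
      have e1 : l ≠ 0 := fun h0 => hgne g hu (by rw [hl, h0, zero_smul])
      have e2 : l' ≠ 0 := fun h0 => hgne g' hu (by rw [hl', h0, zero_smul])
      conv_rhs => rw [← one_smul k u]
      congr 1
      field_simp
  have hx1 : x ≠ 1 := fun h => hP.ne_one (by rw [← hx, h, orderOf_one])
  have hfixS : ∀ g : H, ∃ a : S, g • a = a := by
    intro g
    obtain ⟨g', hg', v, hv, hvv, l, hl, l', hl'⟩ : ∃ g' : H, g' ≠ 1 ∧ ∃ v, v ≠ 0 ∧ B v v = 0 ∧
        ∃ l : k, φ g' v = l • v ∧ ∃ l' : k, φ g v = l' • v := by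
      by_cases hg : g = 1
      · obtain ⟨v, hv, hvv, l, hl⟩ := exists_fixed_line hB (hSO x)
        exact ⟨x, hx1, v, hv, hvv, l, hl, 1, by rw [hg, map_one, one_smul, Module.End.one_apply]⟩
      · obtain ⟨v, hv, hvv, l, hl⟩ := exists_fixed_line hB (hSO g)
        exact ⟨g, hg, v, hv, hvv, l, hl, l, hl⟩
    exact ⟨⟨_, ⟨v, hv, hvv, rfl⟩, g', hg', (hfix g' hv).2 ⟨l, hl⟩⟩,
      (hsm _ _).2 ((hfix g hv).2 ⟨l', hl'⟩)⟩
  obtain ⟨a₀, ha₀⟩ := hfixS x
  have hxp : x ^ p = 1 := hx ▸ pow_orderOf_eq_one x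
  have hpH : p ∣ Nat.card H := hx ▸ orderOf_dvd_natCard x
  have hUcard : ∀ a : S, ∀ y ∈ CfsgLib.PSL2.unipAt hP1 a, y ≠ 1 →
      CfsgLib.PSL2.unipAt hP1 a = Subgroup.zpowers y := by
    intro a y hy hy1
    obtain ⟨i, hi⟩ := IsPGroup.iff_card.1 (CfsgLib.PSL2.isPGroup_unipAt hP1 a)
    have hi2 : i < 2 := by
      by_contra h
      exact hsq (dvd_trans (pow_dvd_pow p (not_lt.1 h))
        (hi ▸ Subgroup.card_subgroup_dvd_card _))
    refine (Subgroup.eq_of_le_of_card_ge (Subgroup.zpowers_le.2 hy) ?_).symm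
    rw [hi, Nat.card_zpowers, orderOf_eq_prime hy.2 hy1]
    exact (pow_le_pow_right₀ hP.one_le (show i ≤ 1 by omega)).trans (pow_one p).le
  have hcase := CfsgLib.PSL2.p1Case hP1 hfixS
  rcases hcase with ⟨a, -, hfa⟩ | ⟨hnp, -⟩ | hG | ⟨a, b, hab, horb, -, hnp⟩ | ⟨hnp, -⟩ |
    ⟨hnp, -⟩ | ⟨hnp, -⟩ | ⟨hP', a, Q, e, hQ, hQ2, he, hS', ho⟩
  · left
    intro y hy
    by_cases hy1 : y = 1
    · exact hy1 ▸ one_mem _
    · rw [← hUcard a x ⟨hfa x, hxp⟩ hx1]
      exact ⟨hfa y, hy⟩
  · exact absurd hpH hnp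
  · rw [hG, Nat.dvd_one] at hpH; exact absurd hpH hP.ne_one
  · exfalso
    have h := CfsgLib.PSL2.card_orbit_mul (G := H) a
    rw [horb, Nat.card_coe_set_eq, Set.ncard_pair hab] at h
    rw [← h] at hpH
    rcases hP.dvd_mul.1 hpH with h2 | h2
    · have := Nat.le_of_dvd two_pos h2; omega
    · exact hnp h2
  · exact absurd hpH hnp
  · exact absurd hpH hnp
  · rcases hnp with hnp | hnp
    · exact absurd hpH hnp
    · omega
  · right
    -- move the point of `x` to `a`
    obtain ⟨y, hy, hy1⟩ : ∃ y ∈ CfsgLib.PSL2.unipAt hP1 a, y ≠ 1 := by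
      haveI : Nontrivial (CfsgLib.PSL2.unipAt hP' a) :=
        Finite.one_lt_card_iff_nontrivial.1 (by omega)
      obtain ⟨y, hy⟩ := exists_ne (1 : CfsgLib.PSL2.unipAt hP' a)
      exact ⟨y, y.2, fun h => hy (Subtype.ext h)⟩
    obtain ⟨c, hc⟩ := CfsgLib.PSL2.mem_orbit_of_parabolic hP1 hy1 hy.2 hy.1 hx1 hxp ha₀
    change c • a = a₀ at hc
    have hU : CfsgLib.PSL2.unipAt hP1 a₀ = Subgroup.zpowers x := hUcard a₀ x ⟨ha₀, hxp⟩ hx1
    have hUa : Nat.card (CfsgLib.PSL2.unipAt hP1 a₀) = Q := by
      rw [← hc, CfsgLib.PSL2.card_unipAt_smul]; exact hQ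
    have hQp : Q = p := by rw [← hUa, hU, Nat.card_zpowers, hx]
    have hStab : Nat.card (stabilizer H a₀) = p * e := by
      rw [← hc, CfsgLib.PSL2.card_stabilizer_smul, hS', hQp]
    have hconj : ∀ s : stabilizer H a₀, ∃ j : ZMod p, (s : H) * x * (s : H)⁻¹ = x ^ j.val := by
      intro s
      have h1 : (s : H) * x * (s : H)⁻¹ ∈ CfsgLib.PSL2.unipAt hP1 a₀ := by
        refine ⟨?_, by rw [conj_pow, hxp, mul_one, mul_inv_cancel]⟩
        have hs : (s : H)⁻¹ • a₀ = a₀ := inv_smul_eq_iff.2 s.2.symm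
        rw [mul_smul, mul_smul, hs, ha₀, s.2]
      rw [hU, mem_zpowers_iff_mem_range_orderOf, Finset.mem_image] at h1
      obtain ⟨i, hi, he'⟩ := h1
      exact ⟨(i : ZMod p), by
        rw [ZMod.val_natCast, Nat.mod_eq_of_lt (hx ▸ Finset.mem_range.1 hi), he']⟩
    choose J hJ using hconj
    haveI : Fintype (stabilizer H a₀) := Fintype.ofFinite _
    have horb : Nat.card (orbit H a₀) = p + 1 := by
      rw [← hc, MulAction.orbit_smul, ho, hQp]
    obtain ⟨g₀, hg₀⟩ : ∃ g₀ : H, g₀ • a₀ ≠ a₀ := by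
      by_contra hall
      push Not at hall
      have hle : Nat.card (orbit H a₀) ≤ 1 := by
        haveI : Subsingleton (orbit H a₀) :=
          ⟨fun ⟨y, hy⟩ ⟨y', hy'⟩ => Subtype.ext (by
            obtain ⟨g, rfl⟩ := hy
            obtain ⟨g', rfl⟩ := hy'
            exact (hall g).trans (hall g').symm)⟩
        exact Finite.card_le_one_iff_subsingleton.2 inferInstance
      omega
    have hxfix : ∀ i : ℕ, x ^ i • a₀ = a₀ := fun i =>
      (stabilizer H a₀).pow_mem ha₀ i
    have hinj : ∀ i j : ℕ, i < p → j < p → (x ^ i) • (g₀ • a₀) = (x ^ j) • (g₀ • a₀) → i = j := by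
      intro i j hi hj h
      by_contra hne
      refine hg₀ (hP1.unique_fix (g := (x ^ i)⁻¹ * x ^ j) (fun h1 => hne ?_) ?_ ?_ ?_)
      · exact pow_injOn_Iio_orderOf (by simpa [hx] using hi) (by simpa [hx] using hj)
          (inv_mul_eq_one.1 h1)
      · rw [← inv_pow, ((Commute.refl x).inv_left.pow_pow i j).mul_pow, ← pow_mul, ← pow_mul,
          mul_comm i, mul_comm j, pow_mul, pow_mul, inv_pow, hxp, inv_one, one_pow, one_pow, one_mul]
      · rw [mul_smul, ← h, inv_smul_smul]
      · rw [mul_smul, hxfix, inv_smul_eq_iff, hxfix]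
    have hcover : ∀ g : H, g • a₀ = a₀ ∨ ∃ i : ℕ, g • a₀ = (x ^ i * g₀) • a₀ := by
      intro g
      let T : Finset S :=
        insert a₀ ((Finset.range p).image fun i => (x ^ i) • (g₀ • a₀))
      have hT : T.card = p + 1 := by
        rw [Finset.card_insert_of_notMem, Finset.card_image_of_injOn, Finset.card_range]
        · exact fun i hi j hj h => hinj i j (Finset.mem_range.1 hi) (Finset.mem_range.1 hj) h
        · intro hmem
          obtain ⟨i, -, hi⟩ := Finset.mem_image.1 hmem
          refine hg₀ ?_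
          exact smul_left_cancel (x ^ i) (hi.trans (hxfix i).symm)
      have hsub : (T : Set S) ⊆ orbit H a₀ := by
        intro y hy
        simp only [T, Finset.coe_insert, Finset.coe_image, Set.mem_insert_iff, Set.mem_image] at hy
        rcases hy with rfl | ⟨i, -, rfl⟩
        · exact mem_orbit_self _
        · exact ⟨x ^ i * g₀, mul_smul _ _ _⟩
      have heq := Set.eq_of_subset_of_ncard_le hsub (by
        rw [← Nat.card_coe_set_eq, horb, Set.ncard_coe_finset, hT]) (Set.toFinite _)
      have hgmem : g • a₀ ∈ (T : Set S) := heq ▸ mem_orbit a₀ g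
      simp only [T, Finset.coe_insert, Finset.coe_image, Set.mem_insert_iff, Set.mem_image] at hgmem
      rcases hgmem with hgm | ⟨i, -, hgm⟩
      · exact Or.inl hgm
      · exact Or.inr ⟨i, by rw [← hgm, mul_smul]⟩
    obtain ⟨u, hu, huu, hau⟩ := a₀.2.1
    have hgu : ∀ g : H, (g • a₀ : S).1 = Submodule.span k {φ g u} := fun g => by
      show a₀.1.map (φ g) = _
      rw [hau, Submodule.map_span, Set.image_singleton]
    have hxu : φ x u = u := by
      obtain ⟨l, hl⟩ := (hfix x hu).1 (by rw [← hau]; exact (hsm _ _).1 ha₀)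
      rw [hlam1 x u hu l hl hxp, one_smul] at hl
      exact hl
    refine ⟨Finset.univ.image J, e, u, g₀, by rw [hQp] at he; exact he, ?_, fun j hj => ?_, ?_, hu,
      huu, hxu, fun r hr => ?_, fun g => ?_⟩
    rotate_right 0
    rotate_left 2
    · rw [← CfsgLib.PSL2.card_orbit_mul (G := H) a₀, horb, hStab, mul_comm]
    · refine hg₀ (Subtype.ext ?_)
      rw [hgu, hau, hr]
      exact Submodule.span_singleton_smul_eq (isUnit_iff_ne_zero.2 fun h0 => hgne g₀ hu
        (by rw [hr, h0, zero_smul])) _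
    · rcases hcover g with h | ⟨i, h⟩
      · left
        exact (hfix g hu).1 (by rw [← hau]; exact (hsm _ _).1 h)
      · right
        have h1 := congrArg Subtype.val h
        rw [hgu, hgu] at h1
        obtain ⟨r, hr⟩ := Submodule.mem_span_singleton.1
          (h1 ▸ Submodule.mem_span_singleton_self (φ g u))
        exact ⟨i, r, hr.symm⟩
    · have hfib : ∀ j ∈ Finset.univ.image J, (Finset.univ.filter fun s => J s = j).card ≤ p := by
        intro j hj
        obtain ⟨s₀, -, rfl⟩ := Finset.mem_image.1 hj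
        have hcent : ∀ s, J s = J s₀ → ((s₀ : H)⁻¹ * s) ∈ Subgroup.zpowers x := by
          intro s hs
          set c' := (s₀ : H)⁻¹ * s with hc'
          have hcx : c' * x = x * c' := by
            have h1 := hJ s
            rw [hs, ← hJ s₀] at h1
            rw [hc']
            calc (s₀ : H)⁻¹ * s * x = (s₀ : H)⁻¹ * ((s : H) * x * (s : H)⁻¹) * s := by group
              _ = (s₀ : H)⁻¹ * ((s₀ : H) * x * (s₀ : H)⁻¹) * s := by rw [h1]
              _ = x * ((s₀ : H)⁻¹ * s) := by group
          have hc'a : c' • a₀ = a₀ := (stabilizer H a₀).mul_mem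
            ((stabilizer H a₀).inv_mem s₀.2) s.2
          rw [← hU]
          refine ⟨hc'a, ?_⟩
          by_contra hcp
          obtain ⟨b, hba, hb⟩ := hP1.exists_other hcp hc'a
          have hxb : c' • (x • b) = x • b := by rw [← mul_smul, hcx, mul_smul, hb]
          by_cases hxb' : x • b = b
          · exact hba (hP1.unique_fix hx1 hxp hxb' ha₀)
          · refine hcp ?_
            rw [hP1.sharp hba.symm (fun h => hba ?_) (fun h => hxb' h.symm) hc'a hb hxb, one_pow]
            have := congrArg (x⁻¹ • ·) h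
            simp only [inv_smul_smul] at this
            rw [← this, inv_smul_eq_iff.2 ha₀.symm]
        refine le_trans (Finset.card_le_card_of_injOn (fun s => (s₀ : H)⁻¹ * s)
          (t := Finset.univ.filter (· ∈ Subgroup.zpowers x))
          (fun s hs => Finset.mem_filter.2 ⟨Finset.mem_univ _,
            hcent s (Finset.mem_filter.1 hs).2⟩)
          (fun s _ s' _ h => Subtype.ext (mul_left_cancel h))) (le_of_eq ?_)
        rw [← Fintype.card_subtype, ← Nat.card_eq_fintype_card]
        exact (Nat.card_zpowers x).trans hx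
      have h1 := Finset.card_le_mul_card_image (Finset.univ : Finset (stabilizer H a₀)) p hfib
      rw [Finset.card_univ, ← Nat.card_eq_fintype_card, hStab] at h1
      exact Nat.le_of_mul_le_mul_left h1 hP.pos
    · obtain ⟨s, -, rfl⟩ := Finset.mem_image.1 hj
      exact ⟨s, hJ s⟩

include hB in
/-- A finite group of isometries with Sylow subgroups of order `p`. -/
theorem conic {p : ℕ} [Fact p.Prime] [CharP k p] {H : Type*} [Group H] [Finite H]
    (φ : H →* Module.End k W) (hφ : Function.Injective φ) (hSO : ∀ g, IsSO B (φ g))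
    (hp5 : 5 ≤ p) {x : H} (hx : orderOf x = p) (hsq : ¬ p ^ 2 ∣ Nat.card H) :
    (∀ y : H, y ^ p = 1 → y ∈ Subgroup.zpowers x) ∨
      ∃ A : Finset (ZMod p), p - 1 ≤ 2 * A.card ∧ ∀ a ∈ A, ∃ s : H, s * x * s⁻¹ = x ^ a.val := by
  rcases conic' hB φ hφ hSO hp5 hx hsq with h | ⟨A, e, -, -, he, heA, hA, -⟩
  · exact Or.inl h
  · exact Or.inr ⟨A, by omega, hA⟩

end CfsgLib.SmallDegree
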