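import Mathlib

/-!
# Reduction of a complex representation modulo a prime
-/

set_option autoImplicit false
set_option linter.style.haveILetI false

namespace CfsgLib.SmallDegree

open Module

/-- A valuation ring of `ℂ` in which `p` is not invertible, with its residue field. -/
theorem exists_valuationSubring_prime (p : ℕ) [hp : Fact p.Prime] :
    ∃ B : ValuationSubring ℂ, CharP (IsLocalRing.ResidueField B) p ∧
      IsAlgClosed (IsLocalRing.ResidueField B) := by
  set A : Subring ℂ := (Int.castRingHom ℂ).range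
  have hI : Ideal.span {(p : A)} ≠ ⊤ := by
    rw [Ne, Ideal.span_singleton_eq_top, isUnit_iff_exists_inv]
    rintro ⟨⟨b, z, rfl⟩, hb⟩
    have h1 := congrArg Subtype.val hb
    push_cast [eq_intCast] at h1
    have h2 : (p : ℤ) * z = 1 := by exact_mod_cast h1
    exact hp.out.not_dvd_one (Int.natCast_dvd_natCast.1 ⟨z, by exact_mod_cast h2.symm⟩)
  obtain ⟨B, -, hB⟩ := Ideal.image_subset_nonunits_valuationSubring _ hI
  have hpB : (p : IsLocalRing.ResidueField B) = 0 := by
    have h1 : (p : ℂ) ∈ B.nonunits := hB ⟨(p : A), Ideal.mem_span_singleton_self _, by simp⟩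
    rw [← SetLike.mem_coe, ← B.image_maximalIdeal] at h1
    obtain ⟨y, hy, hye⟩ := h1
    have : y = (p : B) := Subtype.ext (by rw [show (y : ℂ) = p from hye]; simp)
    subst this
    simpa using (IsLocalRing.residue_eq_zero_iff _).2 hy
  refine ⟨B, ringChar.eq_iff.1 (CharP.ringChar_of_prime_eq_zero hp.out hpB), ?_⟩
  refine IsAlgClosed.of_exists_root _ fun f hf hirr => ?_
  obtain ⟨P, hP, hdeg, hPm⟩ := Polynomial.lifts_and_degree_eq_and_monic
    (f := IsLocalRing.residue B) (p := f)
    (Polynomial.map_surjective (IsLocalRing.residue B) IsLocalRing.residue_surjective f) hf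
  obtain ⟨z, hz⟩ := IsAlgClosed.exists_root (P.map (algebraMap B ℂ)) (by
    rw [hPm.degree_map, hdeg]
    exact hirr.degree_pos.ne')
  have hint : IsIntegral B z := ⟨P, hPm, by rw [← Polynomial.eval_map]; exact hz⟩
  obtain ⟨y, rfl⟩ := IsIntegrallyClosed.isIntegral_iff.1 hint
  refine ⟨IsLocalRing.residue B y, ?_⟩
  rw [← hP, Polynomial.eval_map, Polynomial.eval₂_at_apply]
  rw [Polynomial.IsRoot, Polynomial.eval_map, Polynomial.eval₂_at_apply,
    map_eq_zero_iff _ (IsFractionRing.injective B ℂ)] at hz
  rw [hz, map_zero]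

/-- A complex representation reduces modulo `p`, with kernel a `p`-group. -/
theorem exists_reduction {G : Type*} [Group G] [Finite G] {p : ℕ} [hp : Fact p.Prime] {n : ℕ}
    (ρ : Representation ℂ G (Fin n → ℂ)) (hρ : Function.Injective ρ) :
    ∃ (k : Type) (_ : Field k) (_ : IsAlgClosed k) (_ : CharP k p) (r : ℕ)
      (σ : Representation k G (Fin r → k)), r ≤ n ∧
      ∀ g : G, σ g = 1 → ∃ i : ℕ, g ^ p ^ i = 1 := by
  classical
  obtain ⟨B, hchar, hclosed⟩ := exists_valuationSubring_prime p
  haveI := Fintype.ofFinite G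
  let L : Submodule B (Fin n → ℂ) := Submodule.span B
    (Set.range fun gi : G × Fin n => ρ gi.1 (Pi.single gi.2 1))
  haveI : Module.Finite B L := Module.Finite.span_of_finite B (Set.finite_range _)
  haveI : IsBezout B := inferInstance
  have hsmul : ∀ (b : B) (v : Fin n → ℂ), b • v = (b : ℂ) • v := fun b v => rfl
  haveI : Module.Flat B L := by
    rw [Module.Flat.flat_iff_torsion_eq_bot_of_isBezout, Submodule.eq_bot_iff]
    rintro v ⟨⟨b, hb⟩, hbv⟩
    have hb0 : b ≠ 0 := nonZeroDivisors.ne_zero hb
    have h1 : (b : ℂ) • (v : Fin n → ℂ) = 0 := congrArg Subtype.val hbv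
    exact Subtype.ext ((smul_eq_zero.1 h1).resolve_left fun h => hb0 (Subtype.ext h))
  haveI : Module.Free B L := Module.free_of_flat_of_isLocalRing
  let bs := Module.Free.chooseBasis B L
  let e := Fintype.equivFin (Module.Free.ChooseBasisIndex B L)
  set r := Fintype.card (Module.Free.ChooseBasisIndex B L)
  let b : Basis (Fin r) B L := bs.reindex e
  have hr : r ≤ n := by
    have h1 : LinearIndependent B fun i => (b i : Fin n → ℂ) :=
      b.linearIndependent.map' L.subtype (Submodule.ker_subtype L)
    have h2 := (LinearIndependent.iff_fractionRing (R := B) (K := ℂ)).1 h1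
    have h3 := h2.fintype_card_le_finrank
    rw [Fintype.card_fin, Module.finrank_fin_fun] at h3
    exact h3
  have hL : ∀ g : G, ∀ v ∈ L, ρ g v ∈ L := by
    intro g v hv
    induction hv using Submodule.span_induction with
    | mem w hw =>
      obtain ⟨⟨g', i⟩, rfl⟩ := hw
      exact Submodule.subset_span ⟨(g * g', i), by simp⟩
    | zero => rw [map_zero]; exact zero_mem _
    | add u w _ _ hu hw => rw [map_add]; exact add_mem hu hw
    | smul c u _ hu => rw [hsmul, map_smul, ← hsmul]; exact Submodule.smul_mem _ _ hu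
  let ψ : G →* Module.End B L :=
    { toFun := fun g => ((ρ g).restrictScalars B).restrict (hL g)
      map_one' := LinearMap.ext fun v => Subtype.ext (LinearMap.congr_fun (map_one ρ) _)
      map_mul' := fun g g' => LinearMap.ext fun v => Subtype.ext (LinearMap.congr_fun (map_mul ρ g g') _) }
  have hψ : Function.Injective ψ := fun g g' h => hρ ((Pi.basisFun ℂ (Fin n)).ext fun i => by
    have hmem : (Pi.single i 1 : Fin n → ℂ) ∈ L :=
      Submodule.subset_span ⟨(1, i), by simp⟩
    rw [Pi.basisFun_apply]
    exact congrArg Subtype.val (LinearMap.congr_fun h ⟨_, hmem⟩))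
  let μ : G →* Matrix (Fin r) (Fin r) B :=
    (LinearMap.toMatrixAlgEquiv b).toAlgHom.toMonoidHom.comp ψ
  have hμ : Function.Injective μ := fun g g' h =>
    hψ ((LinearMap.toMatrixAlgEquiv b).injective h)
  let red := (IsLocalRing.residue B).mapMatrix (m := Fin r)
  let σ : Representation (IsLocalRing.ResidueField B) G (Fin r → IsLocalRing.ResidueField B) :=
    (Matrix.toLinAlgEquiv' (R := IsLocalRing.ResidueField B)).toAlgHom.toMonoidHom.comp
      (red.toMonoidHom.comp μ)
  refine ⟨IsLocalRing.ResidueField B, inferInstance, hclosed, hchar, r, σ, hr, fun g hg => ?_⟩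
  have hg1 : red (μ g) = 1 :=
    (Matrix.toLinAlgEquiv' (R := IsLocalRing.ResidueField B)).injective
      (show (Matrix.toLinAlgEquiv') (red (μ g)) = Matrix.toLinAlgEquiv' 1 by
        rw [map_one]; exact hg)
  have hker : ∀ (y : G) (q : ℕ), red (μ y) = 1 → ¬ p ∣ q → y ^ q = 1 → y = 1 := by
    intro y q hy hq hyq
    refine hμ ?_
    rw [map_one]
    set S := ∑ i ∈ Finset.range q, μ y ^ i with hS
    have hu : IsUnit S := by
      rw [Matrix.isUnit_iff_isUnit_det]
      by_contra h
      rw [← mem_nonunits_iff, ← IsLocalRing.mem_maximalIdeal,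
        ← IsLocalRing.residue_eq_zero_iff, RingHom.map_det] at h
      change (red S).det = 0 at h
      rw [hS, map_sum, Finset.sum_congr rfl (g := fun _ => (1 : Matrix (Fin r) (Fin r)
        (IsLocalRing.ResidueField B))) (fun i _ => by rw [map_pow, hy, one_pow]), Finset.sum_const,
        Finset.card_range, nsmul_eq_mul, mul_one, ← map_natCast (algebraMap
          (IsLocalRing.ResidueField B) (Matrix (Fin r) (Fin r) (IsLocalRing.ResidueField B))),
        Matrix.algebraMap_eq_diagonal, Matrix.det_diagonal, Finset.prod_eq_zero_iff] at h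
      obtain ⟨i, -, hi⟩ := h
      exact hq ((CharP.cast_eq_zero_iff _ p q).1 (by simpa using hi))
    have h0 : (μ y - 1) * S = 0 := by
      rw [hS, mul_geom_sum, ← map_pow, hyq, map_one, sub_self]
    exact sub_eq_zero.1 (hu.mul_left_eq_zero.1 h0)
  -- the p'-part
  refine ⟨(orderOf g).factorization p, ?_⟩
  refine hker _ (orderOf g / p ^ (orderOf g).factorization p) ?_
    (Nat.not_dvd_ordCompl hp.out (orderOf_pos g).ne') ?_
  · rw [map_pow, map_pow, hg1, one_pow]
  · rw [← pow_mul, Nat.ordProj_mul_ordCompl_eq_self, pow_orderOf_eq_one]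

end CfsgLib.SmallDegree
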