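import Cfsg.Agent.Lib.SmallDegree.Fitting
import Cfsg.Agent.Lib.SmallDegree.Conic
import Cfsg.Agent.Lib.SmallDegree.Reduction

/-!
# Faithful representations of small degree
-/

set_option autoImplicit false
set_option linter.unusedSectionVars false
set_option linter.style.haveILetI false

namespace CfsgLib.SmallDegree

open Module
open scoped Pointwise

variable {k : Type*} [Field k] [IsAlgClosed k] {p : ℕ} [Fact p.Prime] [CharP k p]

/-- The three dimensional representation and its dichotomy. -/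
theorem exists_three_dichotomy {G : Type*} [Group G] [Finite G] {V : Type*} [AddCommGroup V]
    [Module k V] [FiniteDimensional k V] (ρ : Representation k G V) {x : G} (hx : orderOf x = p)
    (hsq : ¬ p ^ 2 ∣ Nat.card G) (hρx : ρ x ≠ 1) (hn : 2 * finrank k V + 1 ≤ p) :
    5 ≤ p ∧ ∃ (W : Submodule k (Module.End k V)) (σ : Representation k G W),
      (∀ g (Z : W), ((σ g Z : W) : Module.End k V) = ρ.linHom ρ g (Z : Module.End k V)) ∧
      σ x ≠ 1 ∧
      (∃ Z : W, ((σ x⁻¹ - 1) ^ 2 : Module.End k W) Z ≠ 0 ∧ ((σ x⁻¹ - 1) ^ 3 : Module.End k W) = 0) ∧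
      (∀ Z : W, (∀ Y : W, LinearMap.trace k V ((Y : Module.End k V) * (Z : Module.End k V)) = 0) →
        Z = 0) ∧
      finrank k W = 3 ∧
      ((∀ g : G, ∃ a : ℕ, σ (g * x * g⁻¹) = σ (x ^ a)) ∨
        ∃ A : Finset (ZMod p), p - 1 ≤ 2 * A.card ∧
          ∀ a ∈ A, ∃ g : G, σ (g * x * g⁻¹) = σ (x ^ a.val)) := by
  classical
  have hn2 : 2 ≤ finrank k V := by
    by_contra h
    have hxp : x ^ p = 1 := hx ▸ pow_orderOf_eq_one x
    have h1 := sub_one_pow_finrank (ρ := ρ) (p := p) hxp
    have h2 := pow_eq_zero_of_le (show finrank k V ≤ 1 by omega) h1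
    rw [pow_one, sub_eq_zero] at h2
    exact hρx h2
  have hp5 : 5 ≤ p := by omega
  obtain ⟨W, hW3, hWinv, hWnd, Z, hZW, hZ⟩ := exists_three ρ hx hsq hρx hn
  refine ⟨hp5, W, ?_⟩
  let σ : Representation k G W :=
    { toFun := fun g => (ρ.linHom ρ g).restrict (hWinv g)
      map_one' := LinearMap.ext fun v => Subtype.ext (LinearMap.congr_fun (map_one (ρ.linHom ρ)) _)
      map_mul' := fun g g' => LinearMap.ext fun v =>
        Subtype.ext (LinearMap.congr_fun (map_mul (ρ.linHom ρ) g g') _) }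
  have hσ : ∀ g (Y : W), ((σ g Y : W) : Module.End k V) = ρ.linHom ρ g (Y : Module.End k V) :=
    fun g Y => rfl
  have hxp' : x⁻¹ ^ p = 1 := by rw [inv_pow, ← hx, pow_orderOf_eq_one, inv_one]
  have hΔ3 : ((σ x⁻¹ - 1) ^ 3 : Module.End k W) = 0 := by
    have := sub_one_pow_finrank (ρ := σ) (p := p) hxp'
    rwa [hW3] at this
  have hΔ2 : ((σ x⁻¹ - 1) ^ 2 : Module.End k W) ⟨Z, hZW⟩ ≠ 0 := fun h => hZ (by
    have := congrArg Subtype.val h
    simpa [pow_two, Module.End.mul_apply, hσ, LinearMap.comp_sub, LinearMap.sub_comp] using this)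
  have hσx : σ x ≠ 1 := fun h => hΔ2 (by
    have h1 : σ x⁻¹ = 1 := by
      rw [← mul_one (σ x⁻¹), ← h, ← map_mul, inv_mul_cancel, map_one, h]
    have h2 : (σ x⁻¹ - 1 : Module.End k W) = 0 := sub_eq_zero.2 h1
    rw [h2, zero_pow two_ne_zero]; rfl)
  have hnd : ∀ Y : W, (∀ U : W, LinearMap.trace k V ((U : Module.End k V) * (Y : Module.End k V)) = 0)
      → Y = 0 := fun Y hY => Subtype.ext (hWnd Y Y.2 fun U hU => hY ⟨U, hU⟩)
  refine ⟨σ, hσ, hσx, ⟨⟨Z, hZW⟩, hΔ2, hΔ3⟩, hnd, hW3, ?_⟩
  let B : W →ₗ[k] W →ₗ[k] k :=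
    LinearMap.mk₂ k (fun Y U : W => LinearMap.trace k V ((Y : Module.End k V) * (U : Module.End k V)))
      (fun a b c => by simp [add_mul]) (fun r a b => by simp)
      (fun a b c => by simp [mul_add]) (fun r a b => by simp)
  have hB : IsOrth3 B := ⟨fun u v => LinearMap.trace_mul_comm k _ _, fun v hv => hnd v hv, hW3, by
    have := factorial_ne_zero_of_lt (k := k) (p := p) (i := 2) (by omega)
    simpa using this⟩
  let d : G →* k := (LinearMap.det).comp σ
  let G₁ : Subgroup G := d.toHomUnits.ker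
  have hG₁ : ∀ g, g ∈ G₁ ↔ LinearMap.det (σ g) = 1 := fun g => by
    rw [MonoidHom.mem_ker, Units.ext_iff]; rfl
  have hxG₁ : x ∈ G₁ := by
    rw [hG₁]
    have h1 : LinearMap.det (σ x) ^ p = 1 := by
      rw [← map_pow, ← map_pow, ← hx, pow_orderOf_eq_one, map_one, map_one]
    have h2 : (LinearMap.det (σ x) - 1) ^ p = 0 := by rw [sub_pow_char, one_pow, h1, sub_self]
    exact sub_eq_zero.1 (eq_zero_of_pow_eq_zero h2)
  let θ : G₁ →* (Module.End k W)ˣ := (σ.asGroupHom).comp G₁.subtype
  let H := θ.range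
  let φ : H →* Module.End k W := (Units.coeHom _).comp H.subtype
  have hφ : Function.Injective φ := fun a b h => Subtype.ext (Units.ext h)
  have hθ : ∀ g : G₁, φ ⟨θ g, g, rfl⟩ = σ (g : G) := fun g => Representation.asGroupHom_apply σ _
  have hSO : ∀ h : H, IsSO B (φ h) := by
    rintro ⟨_, g, rfl⟩
    rw [hθ]
    refine ⟨fun u v => ?_, (hG₁ g).1 g.2⟩
    show LinearMap.trace k V (_ * _) = LinearMap.trace k V (_ * _)
    rw [hσ, hσ, trace_linHom]
  haveI : Finite H := Finite.of_surjective θ.rangeRestrict θ.rangeRestrict_surjective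
  let xb : H := ⟨θ ⟨x, hxG₁⟩, ⟨x, hxG₁⟩, rfl⟩
  have hxb : orderOf xb = p := by
    refine orderOf_eq_prime (hφ ?_) (fun h => hσx ?_)
    · rw [map_pow, map_one, hθ, ← map_pow, ← hx, pow_orderOf_eq_one, map_one]
    · have := congrArg φ h
      rwa [map_one, hθ] at this
  have hsqH : ¬ p ^ 2 ∣ Nat.card H := fun h => hsq
    (h.trans ((Subgroup.card_range_dvd θ).trans (Subgroup.card_subgroup_dvd_card G₁)))
  have hpow : ∀ a : ℕ, φ (xb ^ a) = σ (x ^ a) := fun a => by rw [map_pow, hθ, map_pow]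
  rcases conic hB φ hφ hSO hp5 hxb hsqH with h | ⟨A, hA, hAe⟩
  · left
    intro g
    have hg : g * x * g⁻¹ ∈ G₁ :=
      (MonoidHom.normal_ker d.toHomUnits).conj_mem x hxG₁ g
    obtain ⟨a, ha⟩ : ∃ a : ℕ, xb ^ a = ⟨θ ⟨_, hg⟩, _, rfl⟩ := by
      have h1 := h ⟨θ ⟨_, hg⟩, _, rfl⟩ (hφ (by
        rw [map_pow, map_one, hθ, ← map_pow, conj_pow, ← hx, pow_orderOf_eq_one, mul_one,
          mul_inv_cancel, map_one]))
      rw [mem_zpowers_iff_mem_range_orderOf, Finset.mem_image] at h1
      obtain ⟨a, -, ha⟩ := h1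
      exact ⟨a, ha⟩
    refine ⟨a, ?_⟩
    have := congrArg φ ha
    rw [hpow, hθ] at this
    exact this.symm
  · right
    refine ⟨A, hA, fun a ha => ?_⟩
    obtain ⟨⟨_, s, rfl⟩, hs⟩ := hAe a ha
    refine ⟨s, ?_⟩
    have := congrArg φ hs
    rw [hpow] at this
    have e : φ (⟨θ s, s, rfl⟩ : H)⁻¹ = σ (s : G)⁻¹ :=
      left_inv_eq_right_inv (a := φ ⟨θ s, s, rfl⟩) (by rw [← map_mul, inv_mul_cancel, map_one])
        (by rw [hθ, ← map_mul, mul_inv_cancel, map_one])
    rw [← this, map_mul φ, map_mul φ, e, hθ, show φ xb = σ x from hθ _, map_mul σ, map_mul σ]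

/-- A normal `p'`-subgroup of index `p` is centralised by a `p`-element in small degree. -/
theorem centralizes_of_small {H : Type*} [Group H] [Finite H] {L : Subgroup H} [L.Normal] {x : H}
    (hx : orderOf x = p) (hsq : ¬ p ^ 2 ∣ Nat.card H) (hL : ¬ p ∣ Nat.card L)
    (hgen : ∀ h : H, ∃ l ∈ L, ∃ i : ℕ, h = l * x ^ i) {V : Type*} [AddCommGroup V] [Module k V]
    [FiniteDimensional k V] (ρ : Representation k H V) (hn : 2 * finrank k V + 1 ≤ p) :
    ∀ l ∈ L, ρ (l * x * l⁻¹ * x⁻¹) = 1 := by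
  classical
  induction hd : finrank k V using Nat.strong_induction_on generalizing V with | _ d ih => ?_
  intro l hl
  have hxp : x ^ p = 1 := hx ▸ pow_orderOf_eq_one x
  set c := l * x * l⁻¹ * x⁻¹ with hc
  have hcL : c ∈ L := by
    rw [hc, show l * x * l⁻¹ * x⁻¹ = l * (x * l⁻¹ * x⁻¹) by group]
    exact L.mul_mem hl (Subgroup.Normal.conj_mem ‹_› _ (L.inv_mem hl) x)
  by_cases hsimple : ∀ U : Submodule k V, (∀ h, ∀ v ∈ U, ρ h v ∈ U) → U = ⊥ ∨ U = ⊤
  swap
  · push Not at hsimple
    obtain ⟨U, hU, hU0, hU1⟩ := hsimple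
    let ρU : Representation k H U :=
      { toFun := fun g => (ρ g).restrict (hU g)
        map_one' := LinearMap.ext fun v => Subtype.ext (LinearMap.congr_fun (map_one ρ) _)
        map_mul' := fun g g' => LinearMap.ext fun v =>
          Subtype.ext (LinearMap.congr_fun (map_mul ρ g g') _) }
    let ρQ : Representation k H (V ⧸ U) :=
      { toFun := fun g => U.mapQ U (ρ g) (fun v hv => hU g v hv)
        map_one' := LinearMap.ext fun q => by
          induction q using Submodule.Quotient.induction_on with | _ v => ?_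
          simp [map_one]
        map_mul' := fun g g' => LinearMap.ext fun q => by
          induction q using Submodule.Quotient.induction_on with | _ v => ?_
          simp [map_mul] }
    have hlt1 : finrank k U < d := hd ▸ Submodule.finrank_lt hU1
    have hsum := Submodule.finrank_quotient_add_finrank U
    have hlt2 : finrank k (V ⧸ U) < d := by
      have : 0 < finrank k U := Nat.pos_of_ne_zero fun h => hU0 (Submodule.finrank_eq_zero.1 h)
      omega
    have h1 := ih _ hlt1 ρU (by omega) rfl l hl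
    have h2 := ih _ hlt2 ρQ (by omega) rfl l hl
    have hsub : ∀ v, ρ c v - v ∈ U := fun v => by
      rw [← Submodule.Quotient.eq]
      exact LinearMap.congr_fun h2 (Submodule.Quotient.mk v)
    have hid : ∀ v ∈ U, ρ c v = v := fun v hv =>
      congrArg Subtype.val (LinearMap.congr_fun h1 ⟨v, hv⟩)
    have hpow : ∀ (j : ℕ) v, ρ (c ^ j) v = v + (j : k) • (ρ c v - v) := by
      intro j v
      induction j with
      | zero => simp
      | succ j ihj =>
        rw [pow_succ', map_mul, Module.End.mul_apply, ihj, map_add, map_smul, hid _ (hsub v),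
          Nat.cast_succ, add_smul, one_smul]
        abel
    refine LinearMap.ext fun v => ?_
    have h3 := hpow (orderOf c) v
    rw [pow_orderOf_eq_one, map_one, Module.End.one_apply, left_eq_add, smul_eq_zero,
      CharP.cast_eq_zero_iff k p] at h3
    refine sub_eq_zero.1 (h3.resolve_left fun hdvd => hL (hdvd.trans ?_))
    rw [← Subgroup.orderOf_mk c hcL]
    exact orderOf_dvd_natCard _
  by_cases hρx : ρ x = 1
  · rw [hc, map_mul, map_mul, map_mul, hρx, mul_one, ← map_mul, mul_inv_cancel, map_one, one_mul,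
      ← mul_one (ρ x⁻¹), ← hρx, ← map_mul, inv_mul_cancel, map_one, hρx]
  exfalso
  obtain ⟨hp5, W, σ, hσ, hσx, ⟨Z, hZ2, hZ3⟩, hnd, hW3, hdich⟩ :=
    exists_three_dichotomy ρ hx hsq hρx hn
  have hsame : ∀ (g : H) (a : ℕ), σ (g * x * g⁻¹) = σ (x ^ a) → σ (x ^ a) = σ x := by
    intro g a ha
    obtain ⟨m, hm, i, rfl⟩ := hgen g
    have he : m * x ^ i * x * (m * x ^ i)⁻¹ = (m * (x * m⁻¹ * x⁻¹)) * x := by group
    rw [he] at ha
    obtain ⟨m', hm', hmeq⟩ : ∃ m' ∈ L, σ (m' * x) = σ (x ^ a) :=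
      ⟨_, L.mul_mem hm (Subgroup.Normal.conj_mem ‹_› _ (L.inv_mem hm) x), ha⟩
    have h1 : σ m' = σ (x ^ a * x⁻¹) := by
      have := congrArg (fun T => T * σ x⁻¹) hmeq
      simp only [← map_mul, mul_assoc, mul_inv_cancel, mul_one] at this
      exact this
    have h2 : σ (x ^ a * x⁻¹) = 1 := by
      have hcop : Nat.Coprime p (orderOf (⟨m', hm'⟩ : L)) :=
        (Fact.out : p.Prime).coprime_iff_not_dvd.2 fun h => hL (h.trans (orderOf_dvd_natCard _))
      have e1 : σ (x ^ a * x⁻¹) ^ p = 1 := by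
        rw [← map_pow, ((Commute.refl x).pow_left a).inv_right.mul_pow, ← pow_mul, mul_comm a p,
          pow_mul, hxp, one_pow, inv_pow, hxp, inv_one, one_mul, map_one]
      have e2 : σ (x ^ a * x⁻¹) ^ orderOf (⟨m', hm'⟩ : L) = 1 := by
        rw [← h1, ← map_pow, Subgroup.orderOf_mk, pow_orderOf_eq_one, map_one]
      have := pow_gcd_eq_one.2 ⟨e1, e2⟩
      rwa [hcop.gcd_eq_one, pow_one] at this
    have := congrArg (fun T => T * σ x) h2
    simpa [← map_mul, mul_assoc] using this
  rcases hdich with hcomm | ⟨A, hA, hAe⟩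
  swap
  · have hle : A.card ≤ 1 := by
      rw [Finset.card_le_one]
      have huniq : ∀ a ∈ A, (a.val : ZMod p) = 1 := by
        intro a ha
        obtain ⟨g, hg⟩ := hAe a ha
        have h1 := hsame g a.val hg
        let τ : H →* (Module.End k W)ˣ := σ.asGroupHom
        have hval : ∀ h, ((τ h : (Module.End k W)ˣ) : Module.End k W) = σ h :=
          Representation.asGroupHom_apply σ
        have hord : orderOf (τ x) = p :=
          orderOf_eq_prime (by rw [← map_pow, hxp, map_one]) fun h => hσx (by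
            rw [← hval, h, Units.val_one])
        have h2 : τ x ^ a.val = τ x ^ 1 := by
          rw [pow_one, ← map_pow]
          exact Units.ext (by rw [hval, hval, h1])
        rw [pow_eq_pow_iff_modEq, hord] at h2
        exact_mod_cast (ZMod.natCast_eq_natCast_iff _ _ _).2 h2
      intro a ha b hb
      rw [← ZMod.natCast_zmod_val a, ← ZMod.natCast_zmod_val b, huniq a ha, huniq b hb]
    omega
  have hcx : ∀ g : H, σ g * σ x⁻¹ = σ x⁻¹ * σ g := by
    intro g
    obtain ⟨a, ha⟩ := hcomm g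
    have h1 : σ (g * x * g⁻¹) = σ x := ha.trans (hsame g a ha)
    have h2 : σ g * σ x = σ x * σ g := by
      rw [← map_mul, show g * x = g * x * g⁻¹ * g by group, map_mul, h1]
    have := congrArg (fun T => σ x⁻¹ * T * σ x⁻¹) h2
    have hi : σ x * σ x⁻¹ = 1 := by rw [← map_mul, mul_inv_cancel, map_one]
    have hi' : σ x⁻¹ * σ x = 1 := by rw [← map_mul, inv_mul_cancel, map_one]
    simp only [mul_assoc, hi, mul_one] at this
    rw [← mul_assoc, hi', one_mul] at this
    exact this.symm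
  -- the fixed vector
  set D : Module.End k W := σ x⁻¹ - 1 with hD
  obtain ⟨w, hw⟩ : ∃ w, w = (D ^ 2) Z := ⟨_, rfl⟩
  have hwD : D w = 0 := by rw [hw, ← Module.End.mul_apply, ← pow_succ', hZ3]; rfl
  have hDg : ∀ (g : H) (Y : W), D (σ g Y) = σ g (D Y) := fun g Y => by
    simp only [hD, LinearMap.sub_apply, Module.End.one_apply, map_sub]
    rw [← Module.End.mul_apply, ← hcx, Module.End.mul_apply]
  let b := fun Y U : W => LinearMap.trace k V ((Y : Module.End k V) * (U : Module.End k V))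
  have hiso : ∀ (g : H) (Y U : W), b (σ g Y) (σ g U) = b Y U := fun g Y U => by
    simp only [b, hσ, trace_linHom]
  have hfixw : ∀ U : W, D U = 0 → σ x⁻¹ U = U := fun U h => by
    simpa [hD, sub_eq_zero] using h
  have horth : ∀ Y : W, b (D Y) w = 0 := fun Y => by
    have h1 := hiso x⁻¹ Y w
    rw [hfixw w hwD] at h1
    simp only [b, hD, LinearMap.sub_apply, Module.End.one_apply, Submodule.coe_sub, sub_mul,
      map_sub] at h1 ⊢
    rw [h1, sub_self]
  have hww : b w w = 0 := by
    have := horth (D Z)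
    rwa [← Module.End.mul_apply, ← pow_two, ← hw] at this
  have hli : LinearIndependent k ![Z, D Z, w] := by
    rw [Fintype.linearIndependent_iff]
    intro f hf
    simp only [Fin.sum_univ_three, Matrix.cons_val_zero, Matrix.cons_val_one, Matrix.cons_val] at hf
    have hDD : D (D Z) = w := by rw [hw, pow_two]; rfl
    have h1 := congrArg D hf
    simp only [map_add, map_smul, map_zero, hwD, smul_zero, add_zero, hDD] at h1
    have h2 := congrArg D h1
    simp only [map_add, map_smul, map_zero, hwD, smul_zero, add_zero, hDD] at h2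
    have hw0 : w ≠ 0 := hw ▸ hZ2
    have f0 := (smul_eq_zero.1 h2).resolve_right hw0
    rw [f0, zero_smul, zero_add] at h1 hf
    have f1 := (smul_eq_zero.1 h1).resolve_right hw0
    rw [f1, zero_smul, zero_add] at hf
    have f2 := (smul_eq_zero.1 hf).resolve_right hw0
    intro i
    fin_cases i <;> assumption
  let bW := basisOfLinearIndependentOfCardEqFinrank hli (by rw [hW3]; rfl)
  have hexp : ∀ U : W, ∃ a a' a'' : k, U = a • Z + a' • D Z + a'' • w := fun U => by
    refine ⟨bW.repr U 0, bW.repr U 1, bW.repr U 2, ?_⟩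
    conv_lhs => rw [← bW.sum_repr U]
    simp [bW, Fin.sum_univ_three]
  have hbadd : ∀ (a a' a'' : k), b (a • Z + a' • D Z + a'' • w) w = a * b Z w := fun a a' a'' => by
    have e1 := horth Z
    simp only [b, Submodule.coe_add, Submodule.coe_smul, add_mul, smul_mul_assoc, map_add, map_smul,
      smul_eq_mul] at e1 hww ⊢
    rw [e1, hww, mul_zero, mul_zero, add_zero, add_zero]
  have hZw : b Z w ≠ 0 := fun h0 => hZ2 (by
    rw [← hw]
    refine hnd w fun U => ?_
    obtain ⟨a, a', a'', rfl⟩ := hexp U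
    show b _ w = 0
    rw [hbadd, h0, mul_zero])
  have hsq' : ∀ g : H, ∃ a : k, a * a = 1 ∧ σ g w = a • w := by
    intro g
    obtain ⟨a, a', a'', hgZ⟩ := hexp (σ g Z)
    have hgw : σ g w = a • w := by
      have hDD : D (D Z) = w := by rw [hw, pow_two]; rfl
      rw [← hDD, ← hDg, ← hDg, hgZ]
      simp only [map_add, map_smul, hwD, smul_zero, add_zero, hDD]
    refine ⟨a, ?_, hgw⟩
    have h1 := hiso g Z w
    rw [hgZ, hgw] at h1
    have h2 : b (a • Z + a' • D Z + a'' • w) (a • w) = a * b (a • Z + a' • D Z + a'' • w) w := by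
      simp [b]
    rw [h2, hbadd, ← mul_assoc] at h1
    exact (mul_eq_right₀ hZw).1 h1
  -- the endomorphism `w`
  obtain ⟨T, hT⟩ : ∃ T : Module.End k V, T = (w : Module.End k V) := ⟨_, rfl⟩
  have hTg : ∀ g : H, ∃ a : k, a * a = 1 ∧ ρ g * T = a • (T * ρ g) := by
    intro g
    obtain ⟨a, ha, hga⟩ := hsq' g
    refine ⟨a, ha, ?_⟩
    have h1 : ρ g * T * ρ g⁻¹ = a • T := by
      have := congrArg Subtype.val hga
      rw [hσ, linHom_eq] at this
      rw [hT]; exact this
    rw [← smul_mul_assoc, ← h1, mul_assoc, ← map_mul, inv_mul_cancel, map_one, mul_one]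
  have hT0 : T ≠ 0 := fun h => hZ2 (by
    rw [← hw]; exact Subtype.ext (hT ▸ h))
  have hTT : ∀ g : H, ρ g * (T * T) = (T * T) * ρ g := by
    intro g
    obtain ⟨a, ha, hga⟩ := hTg g
    rw [← mul_assoc, hga, smul_mul_assoc, mul_assoc, hga, mul_smul_comm, smul_smul, ha, one_smul,
      ← mul_assoc]
  haveI : Nontrivial V := Module.nontrivial_of_finrank_pos (R := k) (Nat.pos_of_ne_zero fun h => hρx (by
    have := sub_one_pow_finrank (ρ := ρ) (p := p) hxp
    rw [h, pow_zero] at this
    haveI : Subsingleton (Module.End k V) := subsingleton_of_zero_eq_one this.symm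
    exact Subsingleton.elim _ _))
  obtain ⟨μ, hμ⟩ := Module.End.exists_eigenvalue (T * T)
  have heig : Module.End.eigenspace (T * T) μ = ⊤ := by
    refine (hsimple _ fun g v hv => ?_).resolve_left hμ
    rw [Module.End.mem_eigenspace_iff] at hv ⊢
    rw [← Module.End.mul_apply, ← hTT g, Module.End.mul_apply, hv, map_smul]
  have hscal : T * T = μ • (1 : Module.End k V) := LinearMap.ext fun v => by
    have : v ∈ Module.End.eigenspace (T * T) μ := heig ▸ Submodule.mem_top
    simpa using Module.End.mem_eigenspace_iff.1 this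
  have hμ0 : μ = 0 := by
    have h1 : LinearMap.trace k V (T * T) = 0 := by rw [hT]; exact hww
    rw [hscal, map_smul, LinearMap.trace_one, smul_eq_mul, mul_eq_zero] at h1
    refine h1.resolve_right fun h => ?_
    rw [CharP.cast_eq_zero_iff k p] at h
    have := Nat.le_of_dvd Module.finrank_pos h
    omega
  rw [hμ0, zero_smul] at hscal
  refine (hsimple (LinearMap.ker T) fun g v hv => ?_).elim (fun hbot => hT0 ?_) (fun htop => hT0 ?_)
  · obtain ⟨a, ha, hga⟩ := hTg g
    rw [LinearMap.mem_ker] at hv ⊢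
    have h1 := LinearMap.congr_fun hga v
    rw [Module.End.mul_apply, hv, map_zero, LinearMap.smul_apply, Module.End.mul_apply, eq_comm,
      smul_eq_zero] at h1
    exact h1.resolve_left (left_ne_zero_of_mul (by rw [ha]; exact one_ne_zero))
  · refine LinearMap.ext fun v => ?_
    have h1 : T v ∈ LinearMap.ker T := by
      rw [LinearMap.mem_ker, ← Module.End.mul_apply, hscal, LinearMap.zero_apply]
    rw [hbot, Submodule.mem_bot] at h1
    exact h1
  · exact LinearMap.ker_eq_top.1 htop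

/-- A faithful modular representation of degree less than `(p-1)/2` makes the Sylow subgroup normal,
unless many powers of `x` are conjugate to it. -/
theorem normal_or_many_conj {G : Type*} [Group G] [Finite G] {x : G} (hx : orderOf x = p)
    (hsq : ¬ p ^ 2 ∣ Nat.card G) {V : Type*} [AddCommGroup V] [Module k V] [FiniteDimensional k V]
    (ρ : Representation k G V) (hρ : Function.Injective ρ) (hn : 2 * finrank k V + 1 ≤ p) :
    (Subgroup.zpowers x).Normal ∨
      ∃ A : Finset (ZMod p), p - 1 ≤ 2 * A.card ∧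
        ∀ a ∈ A, ∃ g : G, g * x * g⁻¹ = x ^ a.val := by
  classical
  have hP := Fact.out (p := p.Prime)
  have hρx : ρ x ≠ 1 := fun h => hP.ne_one (by
    rw [← hx, hρ (h.trans (map_one ρ).symm), orderOf_one])
  obtain ⟨-, W, σ, -, hσx, -, -, -, hdich⟩ := exists_three_dichotomy ρ hx hsq hρx hn
  let L : Subgroup G := σ.asGroupHom.ker
  have hLmem : ∀ g, g ∈ L ↔ σ g = 1 := fun g => by
    rw [MonoidHom.mem_ker, Units.ext_iff, Representation.asGroupHom_apply]; rfl
  have hLp : ¬ p ∣ Nat.card L := by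
    intro hdvd
    obtain ⟨y, hy⟩ := exists_prime_orderOf_dvd_card' (G := L) p hdvd
    rw [← Subgroup.orderOf_coe] at hy
    have hfac : (Nat.card G).factorization p = 1 :=
      le_antisymm (Nat.lt_succ_iff.1 (not_le.1 fun h => hsq
        ((hP.pow_dvd_iff_le_factorization Nat.card_pos.ne').2 h)))
        (hP.factorization_pos_of_dvd Nat.card_pos.ne' (hx ▸ orderOf_dvd_natCard x))
    have hS : ∀ z : G, orderOf z = p → ∃ S : Sylow p G, (S : Subgroup G) = Subgroup.zpowers z := by
      intro z hz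
      refine ⟨Sylow.ofCard (Subgroup.zpowers z) ?_, rfl⟩
      rw [Nat.card_zpowers, hz, hfac, pow_one]
    obtain ⟨Sx, hSx⟩ := hS x hx
    obtain ⟨Sy, hSy⟩ := hS (y : G) hy
    obtain ⟨g, hg⟩ := MulAction.exists_smul_eq G Sy Sx
    have hle : (Sx : Subgroup G) ≤ L := by
      rw [← hg]
      rintro z ⟨u, hu, rfl⟩
      exact (MonoidHom.normal_ker σ.asGroupHom).conj_mem u
        ((Subgroup.zpowers_le.2 y.2) (hSy ▸ hu)) g
    exact hσx ((hLmem x).1 (hle (hSx ▸ Subgroup.mem_zpowers x)))
  haveI : L.Normal := MonoidHom.normal_ker _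
  have hcentral : ∀ l ∈ L, l * x * l⁻¹ * x⁻¹ = 1 := by
    intro l hl
    let K := L ⊔ Subgroup.zpowers x
    have hxK : x ∈ K := Subgroup.mem_sup_right (Subgroup.mem_zpowers x)
    have hLK : L ≤ K := le_sup_left
    haveI : (L.subgroupOf K).Normal := Subgroup.Normal.subgroupOf inferInstance K
    refine hρ ?_
    rw [map_one]
    refine centralizes_of_small (p := p) (H := K) (L := L.subgroupOf K) (x := ⟨x, hxK⟩) ?_ ?_ ?_ ?_
      (ρ.comp K.subtype) hn ⟨l, hLK hl⟩ hl
    · rw [Subgroup.orderOf_mk, hx]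
    · exact fun h => hsq (h.trans (Subgroup.card_subgroup_dvd_card K))
    · rw [Nat.card_congr (Subgroup.subgroupOfEquivOfLe hLK).toEquiv]
      exact hLp
    · intro h
      have hmem : (h : G) ∈ ((L : Set G) * (Subgroup.zpowers x : Set G)) :=
        Subgroup.normal_mul L (Subgroup.zpowers x) ▸ h.2
      obtain ⟨a, ha, b, hb, hab⟩ := hmem
      rw [SetLike.mem_coe, mem_zpowers_iff_mem_range_orderOf, Finset.mem_image] at hb
      obtain ⟨i, -, rfl⟩ := hb
      exact ⟨⟨a, hLK ha⟩, ha, i, Subtype.ext hab.symm⟩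
  have hlift : ∀ (g : G) (a : ℕ), σ (g * x * g⁻¹) = σ (x ^ a) → g * x * g⁻¹ = x ^ a := by
    intro g a ha
    set l := (x ^ a)⁻¹ * (g * x * g⁻¹) with hl
    have hlL : l ∈ L := by
      rw [hLmem, hl, map_mul, ha, ← map_mul, inv_mul_cancel, map_one]
    have hlx : Commute l x := by
      have := hcentral l hlL
      rw [mul_inv_eq_one, mul_inv_eq_iff_eq_mul] at this
      exact this
    have hxp : x ^ p = 1 := hx ▸ pow_orderOf_eq_one x
    have h1 : l ^ p = 1 := by
      have h2 : (g * x * g⁻¹) ^ p = 1 := by rw [conj_pow, hxp, mul_one, mul_inv_cancel]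
      rw [show g * x * g⁻¹ = x ^ a * l by rw [hl, mul_inv_cancel_left],
        ((hlx.pow_right a).symm).mul_pow, ← pow_mul, mul_comm a p, pow_mul, hxp, one_pow,
        one_mul] at h2
      exact h2
    have h3 : l = 1 := by
      by_contra hne
      refine hLp ?_
      rw [← orderOf_eq_prime h1 hne, ← Subgroup.orderOf_mk l hlL]
      exact orderOf_dvd_natCard _
    rw [hl, inv_mul_eq_one] at h3
    exact h3.symm
  rcases hdich with h | ⟨A, hA, hAe⟩
  · left
    refine ⟨fun z hz g => ?_⟩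
    obtain ⟨i, rfl⟩ := hz
    obtain ⟨a, ha⟩ := h g
    show g * x ^ i * g⁻¹ ∈ _
    rw [← conj_zpow, hlift g a ha]
    exact Subgroup.zpow_mem _ (Subgroup.pow_mem _ (Subgroup.mem_zpowers x) a) i
  · exact Or.inr ⟨A, hA, fun a ha => (hAe a ha).imp fun g hg => hlift g a.val hg⟩

end CfsgLib.SmallDegree
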