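import Cfsg.Agent.Lib.SmallDegree.Conic
import Cfsg.Agent.Lib.ThreeTransp.DicksonPairs
import Cfsg.Agent.Lib.Small.PSLPrimes

/-!
# The image of order `p(p²-1)/2` in `SO₃` is `PSL₂(p)`
-/

set_option autoImplicit false
set_option linter.unusedSectionVars false
set_option linter.style.haveILetI false

namespace CfsgLib.SmallDegree

open Module Matrix
open CfsgLib.ThreeTransp (sl2U sl2L sl2U_val sl2L_val)

section Matrix

variable {R : Type*} [CommRing R]

/-- The symmetric square of a `2 × 2` matrix. -/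
def symSq (A : Matrix (Fin 2) (Fin 2) R) : Matrix (Fin 3) (Fin 3) R :=
  !![A 0 0 * A 0 0, A 0 0 * A 0 1, A 0 1 * A 0 1;
     2 * (A 0 0 * A 1 0), A 0 0 * A 1 1 + A 0 1 * A 1 0, 2 * (A 0 1 * A 1 1);
     A 1 0 * A 1 0, A 1 0 * A 1 1, A 1 1 * A 1 1]

theorem symSq_mul (A B : Matrix (Fin 2) (Fin 2) R) : symSq (A * B) = symSq A * symSq B := by
  ext i j
  fin_cases i <;> fin_cases j <;>
    simp [symSq, Matrix.mul_apply, Fin.sum_univ_two, Fin.sum_univ_three] <;> ring

theorem symSq_one : symSq (1 : Matrix (Fin 2) (Fin 2) R) = 1 := by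
  ext i j
  fin_cases i <;> fin_cases j <;> simp [symSq]

end Matrix

variable {k : Type*} [Field k] [IsAlgClosed k] {W : Type*} [AddCommGroup W] [Module k W]
  [FiniteDimensional k W] {B : W →ₗ[k] W →ₗ[k] k} (hB : IsOrth3 B)

include hB in
/-- A group as in the conic lemma of order `p(p²-1)/2` is isomorphic to `PSL₂(p)`. -/
theorem equiv_psl_of_card {p : ℕ} [Fact p.Prime] [CharP k p] {H : Type*} [Group H] [Finite H]
    (φ : H →* Module.End k W) (hφ : Function.Injective φ) (hSO : ∀ g, IsSO B (φ g))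
    (hp5 : 5 ≤ p) {x : H} (hx : orderOf x = p)
    (hcard : 2 * Nat.card H = p * (p ^ 2 - 1)) {u : W} (hu : u ≠ 0) (huu : B u u = 0)
    (hxu : φ x u = u) {g₀ : H} (hg₀ : ∀ r : k, φ g₀ u ≠ r • u)
    (horb : ∀ g : H, (∃ r : k, φ g u = r • u) ∨ ∃ (i : ℕ) (r : k), φ g u = r • φ (x ^ i * g₀) u) :
    Nonempty (H ≃* Matrix.ProjectiveSpecialLinearGroup (Fin 2) (ZMod p)) := by
  classical
  have hP := Fact.out (p := p.Prime)
  have h2 := hB.two
  have hxp : x ^ p = 1 := hx ▸ pow_orderOf_eq_one x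
  have hinvl : ∀ g : H, φ g⁻¹ * φ g = 1 := fun g => by rw [← map_mul, inv_mul_cancel, map_one]
  have hgne : ∀ (g : H) {v : W}, v ≠ 0 → φ g v ≠ 0 := fun g v hv h => hv (by
    rw [← Module.End.one_apply (R := k) v, ← hinvl g, Module.End.mul_apply, h, map_zero])
  have hv : φ g₀ u ≠ 0 := hgne g₀ hu
  have hvv : B (φ g₀ u) (φ g₀ u) = 0 := by rw [(hSO g₀).1, huu]
  obtain ⟨h, f, F, r₀, hr₀, hvf⟩ := exists_frame_pair hB hu huu hv hvv hg₀
  obtain ⟨t, ht⟩ : ∃ t, t = B f (φ x h) := ⟨_, rfl⟩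
  have ht0 : t ≠ 0 := fun h0 => hP.ne_one (by
    rw [← hx, hφ ((eq_of_frame hB F (hSO x) (isSO_one hB) (l := 1) (by rw [one_smul]; exact hxu)
      (by simp) (by rw [← ht, h0, Module.End.one_apply, F.fh])).trans (map_one φ).symm),
      orderOf_one])
  obtain ⟨β, hβ⟩ := IsAlgClosed.exists_pow_nat_eq (-2 : k) (n := 2) two_pos
  have hβ0 : β ≠ 0 := fun h0 => h2 (by
    rw [h0, zero_pow two_ne_zero, zero_eq_neg] at hβ
    exact hβ)
  -- rescale the frame
  obtain ⟨u₁, hu₁⟩ : ∃ u₁, u₁ = (t / β) • u := ⟨_, rfl⟩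
  obtain ⟨f₁, hf₁⟩ : ∃ f₁, f₁ = (β / t) • f := ⟨_, rfl⟩
  have F₁ : IsFrame B u₁ h f₁ := by
    refine ⟨?_, ?_, ?_, F.hh, ?_, ?_⟩ <;>
      simp [hu₁, hf₁, F.ee, F.ff, F.ef, F.eh, F.fh]
    field_simp
  have hxu₁ : φ x u₁ = (1 : k) • u₁ := by rw [hu₁, map_smul, hxu, one_smul]
  have ht₁ : B f₁ (φ x h) = β := by
    rw [hf₁, map_smul, LinearMap.smul_apply, ← ht, smul_eq_mul]
    field_simp
  obtain ⟨-, hxh, hxf⟩ := borel_form hB F₁ (hSO x) hxu₁
  rw [ht₁] at hxh hxf
  -- the basis `u₁, h/β, f₁`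
  have hβ2 : β * β = -2 := by rw [← sq, hβ]
  let w : Fin 3 → kˣ := ![1, Units.mk0 β⁻¹ (inv_ne_zero hβ0), 1]
  let b : Basis (Fin 3) k W := (IsFrame.basis hB F₁).unitsSMul w
  have hb0 : b 0 = u₁ := by simp [b, w, Module.Basis.unitsSMul_apply, IsFrame.basis_coe, Units.smul_def]
  have hb1 : b 1 = β⁻¹ • h := by simp [b, w, Module.Basis.unitsSMul_apply, IsFrame.basis_coe, Units.smul_def]
  have hb2 : b 2 = f₁ := by simp [b, w, Module.Basis.unitsSMul_apply, IsFrame.basis_coe, Units.smul_def]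
  let ι : ZMod p →+* k := ZMod.castHom (dvd_refl p) k
  have hι : Function.Injective ι := ι.injective
  let ψ : Matrix.SpecialLinearGroup (Fin 2) (ZMod p) →* Module.End k W :=
    { toFun := fun A => Matrix.toLinAlgEquiv b (symSq ((A : Matrix (Fin 2) (Fin 2) (ZMod p)).map ι))
      map_one' := by
        rw [Matrix.SpecialLinearGroup.coe_one, Matrix.map_one ι (map_zero ι) (map_one ι), symSq_one,
          map_one]
      map_mul' := fun A A' => by
        rw [Matrix.SpecialLinearGroup.coe_mul, Matrix.map_mul, symSq_mul, map_mul] }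
  have hψ : ∀ A j, ψ A (b j) =
      ∑ i, symSq ((A : Matrix (Fin 2) (Fin 2) (ZMod p)).map ι) i j • b i := fun A j =>
    Matrix.toLinAlgEquiv_self b _ j
  have hxU : φ x = ψ (sl2U (ZMod p) 1) := by
    refine b.ext fun j => ?_
    rw [hψ, Fin.sum_univ_three]
    fin_cases j
    · show φ x (b 0) = _
      simp [hb0, hxu₁, symSq, sl2U_val]
    · show φ x (b 1) = _
      simp [hb0, hb1, hxh, symSq, sl2U_val]
      rw [smul_smul, inv_mul_cancel₀ hβ0, one_smul]
      abel
    · show φ x (b 2) = _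
      simp [hb0, hb1, hb2, hxf, symSq, sl2U_val]
      rw [← sub_eq_zero]
      match_scalars <;> field_simp <;>
        first | ring1 | linear_combination (hβ2) | linear_combination (-hβ2)
  -- the opposite unipotent
  obtain ⟨y, hy⟩ : ∃ y, y = g₀ * x * g₀⁻¹ := ⟨_, rfl⟩
  have hgg : φ g₀⁻¹ (φ g₀ u) = u := by
    rw [← Module.End.mul_apply, hinvl, Module.End.one_apply]
  have hyf : φ y f₁ = (1 : k) • f₁ := by
    have e1 : φ y (φ g₀ u) = φ g₀ u := by
      rw [hy, map_mul, map_mul, Module.End.mul_apply, Module.End.mul_apply, hgg, hxu]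
    have e2 : f₁ = (β / t * r₀⁻¹) • φ g₀ u := by rw [hvf, hf₁, smul_smul, mul_assoc,
      inv_mul_cancel₀ hr₀, mul_one]
    rw [one_smul, e2, map_smul, e1]
  have F₂ : IsFrame B f₁ h u₁ :=
    ⟨F₁.ff, F₁.ee, by rw [hB.symm, F₁.ef], F₁.hh, F₁.fh, F₁.eh⟩
  obtain ⟨-, hyh, hyu⟩ := borel_form hB F₂ (hSO y) hyf
  obtain ⟨s, hs⟩ : ∃ s, s = B u₁ (φ y h) := ⟨_, rfl⟩
  rw [← hs] at hyh hyu
  have hs0 : s ≠ 0 := fun h0 => by
    have h1 : φ y = φ 1 := by
      rw [map_one]
      exact eq_of_frame hB F₂ (hSO y) (isSO_one hB) (l := 1) hyf (by simp)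
        (by rw [← hs, h0, Module.End.one_apply, F₂.fh])
    have h2 := hφ h1
    rw [hy, mul_inv_eq_one, mul_eq_left] at h2
    exact hP.ne_one (by rw [← hx, show x = 1 from h2, orderOf_one])
  -- its parameter is rational
  have hxpow : ∀ i : ℕ, φ (x ^ i) = ψ (sl2U (ZMod p) (i : ZMod p)) := by
    intro i
    induction i with
    | zero => rw [pow_zero, map_one, Nat.cast_zero, CfsgLib.ThreeTransp.sl2U_zero, map_one]
    | succ i ih =>
      rw [pow_succ, map_mul, ih, hxU, ← map_mul, Nat.cast_succ]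
      congr 1
      apply Subtype.ext
      rw [Matrix.SpecialLinearGroup.coe_mul, sl2U_val, sl2U_val, sl2U_val]
      ext a b
      fin_cases a <;> fin_cases b <;> simp [Matrix.mul_apply, Fin.sum_univ_two, add_comm]
  obtain ⟨c, hc0, hsc⟩ : ∃ c : ZMod p, c ≠ 0 ∧ s = β * ι c := by
    rcases horb (y) with ⟨r, hr⟩ | ⟨i, r, hr⟩
    · exfalso
      have e3 : φ y u₁ = r • u₁ := by rw [hu₁, map_smul, hr, smul_comm]
      have h4 := congrArg (B h) e3
      rw [hyu] at h4
      simp [hB.symm h u₁, hB.symm h f₁, F₁.eh, F₁.fh, F₁.hh, hs0] at h4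
    · have e2 : φ g₀ u = (r₀ * (t / β)) • f₁ := by
        rw [hvf, hf₁, smul_smul]
        congr 1
        field_simp
      rw [map_mul, Module.End.mul_apply, e2, map_smul, smul_smul, hxpow] at hr
      have hpf : ψ (sl2U (ZMod p) (i : ZMod p)) f₁ =
          ((i : k) * i) • u₁ + (2 * (i : k) * β⁻¹) • h + f₁ := by
        rw [← hb2, hψ, Fin.sum_univ_three]
        simp [hb0, hb1, hb2, symSq, sl2U_val, smul_smul, map_natCast]
      obtain ⟨R, hR⟩ : ∃ R, R = t / β * (r * (r₀ * (t / β))) := ⟨_, rfl⟩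
      have e3 : φ y u₁ = R • (((i : k) * i) • u₁ + (2 * (i : k) * β⁻¹) • h + f₁) := by
        rw [hu₁, map_smul, hr, hpf, hR, smul_smul, hu₁]
      rw [hyu] at e3
      have eh := congrArg (B h) e3
      have ef := congrArg (B f₁) e3
      have eu := congrArg (B u₁) e3
      simp [hB.symm h u₁, hB.symm h f₁, hB.symm f₁ u₁, F₁.eh, F₁.fh, F₁.hh, F₁.ee, F₁.ef, F₁.ff]
        at eh ef eu
      have hi : (i : k) ≠ 0 := fun h0 => hs0 (by
        rw [h0] at eh
        simpa using eh)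
      have hiz : (i : ZMod p) ≠ 0 := fun h0 => hi (by
        rw [← map_natCast ι, h0, map_zero])
      refine ⟨(i : ZMod p)⁻¹, inv_ne_zero hiz, ?_⟩
      rw [map_inv₀, map_natCast]
      have hR0 : R = 1 / ((i : k) * i) := by
        rw [eq_div_iff (mul_ne_zero hi hi)]
        linear_combination -ef
      rw [hR0] at eh
      field_simp at eh ⊢
      exact mul_right_cancel₀ hβ0 (by rw [hβ2]; linear_combination -eh)
  have hyL : φ y = ψ (sl2L (ZMod p) c) := by
    refine b.ext fun j => ?_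
    rw [hψ, Fin.sum_univ_three]
    fin_cases j
    · show φ y (b 0) = _
      simp [hb0, hb1, hb2, symSq, sl2L_val]
      rw [hyu, hsc, ← sub_eq_zero]
      match_scalars <;> field_simp <;>
        (first | ring1 | linear_combination (ι c - ι c ^ 2) * hβ2 | linear_combination (ι c) * hβ2 |
          linear_combination (-(ι c)) * hβ2 | linear_combination (-(ι c ^ 2)) * hβ2 |
          linear_combination (-2 * ι c) * hβ2 | linear_combination (-(ι c + ι c ^ 2)) * hβ2)
    · show φ y (b 1) = _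
      simp [hb1, hb2, symSq, sl2L_val]
      rw [hyh, hsc, smul_add, smul_smul, inv_mul_cancel_left₀ hβ0]
    · show φ y (b 2) = _
      simp [hb2, symSq, sl2L_val]
      rw [hyf, one_smul]
  -- the range
  let S : Subgroup (Matrix.SpecialLinearGroup (Fin 2) (ZMod p)) :=
    { carrier := {A | ∃ g, φ g = ψ A}
      one_mem' := ⟨1, by rw [map_one, map_one]⟩
      mul_mem' := fun {A A'} ⟨g, hg⟩ ⟨g', hg'⟩ => ⟨g * g', by rw [map_mul, map_mul, hg, hg']⟩
      inv_mem' := fun {A} ⟨g, hg⟩ => ⟨g⁻¹, left_inv_eq_right_inv (hinvl g)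
        (by rw [hg, ← map_mul, mul_inv_cancel, map_one])⟩ }
  have hS : S = ⊤ := by
    refine CfsgLib.ThreeTransp.eq_top_of_uSet (fun r => ?_) hc0 ⟨y, hyL⟩
    exact ⟨x ^ r.val, by rw [hxpow, ZMod.natCast_zmod_val]⟩
  have hSmem : ∀ A, ∃ g, φ g = ψ A := fun A => (hS ▸ Subgroup.mem_top A : A ∈ S)
  choose θ hθ using hSmem
  let θ' : Matrix.SpecialLinearGroup (Fin 2) (ZMod p) →* H :=
    { toFun := θ
      map_one' := hφ (by rw [hθ, map_one, map_one])
      map_mul' := fun A A' => hφ (by rw [hθ, map_mul, map_mul, hθ, hθ]) }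
  have hker : θ'.ker = Subgroup.center (Matrix.SpecialLinearGroup (Fin 2) (ZMod p)) := by
    ext A
    rw [MonoidHom.mem_ker, Matrix.SpecialLinearGroup.mem_center_iff, Fintype.card_fin]
    constructor
    · intro hA
      have hA' : ψ A = 1 := by rw [← hθ A, show θ A = 1 from hA, map_one]
      have hM : symSq ((A : Matrix (Fin 2) (Fin 2) (ZMod p)).map ι) = 1 :=
        (Matrix.toLinAlgEquiv b).injective (by rw [map_one]; exact hA')
      have e00 := congrFun (congrFun hM 0) 0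
      have e02 := congrFun (congrFun hM 0) 2
      have e20 := congrFun (congrFun hM 2) 0
      have e11 := congrFun (congrFun hM 1) 1
      simp [symSq] at e00 e02 e20 e11
      rw [e02, e20, map_zero, mul_zero, add_zero, ← map_mul] at e11
      refine ⟨A.1 0 0, hι (by rw [map_pow, map_one, sq]; exact e00), ?_⟩
      have h11 : A.1 1 1 = A.1 0 0 := hι (by
        have h1 : ι (A.1 0 0) ≠ 0 := fun h0 => by simp [h0] at e00
        refine mul_left_cancel₀ h1 ?_
        rw [← map_mul, e11, e00])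
      ext i j
      fin_cases i <;> fin_cases j <;> simp [e02, e20, h11]
    · rintro ⟨r, hr, hA⟩
      refine hφ ?_
      show φ (θ A) = φ 1
      rw [hθ, map_one]
      show Matrix.toLinAlgEquiv b _ = 1
      have hr' : ι r * ι r = 1 := by rw [← sq, ← map_pow, hr, map_one]
      rw [show symSq ((A : Matrix (Fin 2) (Fin 2) (ZMod p)).map ι) = 1 from ?_, map_one]
      ext i j
      fin_cases i <;> fin_cases j <;> simp [symSq, ← hA, hr']
  have hodd : Odd p := hP.odd_of_ne_two (by omega)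
  have hPSL := CfsgLib.Small.card_PSL_two_prime (F := ZMod p) (ZMod.card p) hodd
  have hrange : θ'.range = ⊤ := by
    refine Subgroup.eq_top_of_card_eq _ ?_
    rw [← Subgroup.index_ker, hker, ← mul_right_inj' (two_ne_zero (α := ℕ)), hcard, ← hPSL]
    rfl
  exact ⟨((QuotientGroup.quotientMulEquivOfEq hker.symm).trans
    ((QuotientGroup.quotientKerEquivRange θ').trans
      ((MulEquiv.subgroupCongr hrange).trans Subgroup.topEquiv))).symm⟩

end CfsgLib.SmallDegree
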