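import Cfsg.Agent.Lib.SmallDegree.Complex
import Cfsg.Agent.Lib.SmallDegree.SymSquare

/-!
# Faithful representations of degree `(p-1)/2`
-/

set_option autoImplicit false
set_option linter.unusedSectionVars false
set_option linter.style.haveILetI false

namespace CfsgLib.SmallDegree

open Module Matrix
open scoped Pointwise

/-- No faithful representation of degree below `(p-1)/2`, in the form used for constituents. -/
theorem two_mul_degree_add_one_ge {G : Type*} [Group G] [Finite G] {p : ℕ} [Fact p.Prime] {n : ℕ}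
    (ρ : Representation ℂ G (Fin n → ℂ)) (hρ : Function.Injective ρ) (hdiv : p ∣ Nat.card G)
    (hsq : ¬ p ^ 2 ∣ Nat.card G) (hnn : ∀ H : Subgroup G, H.Normal → Nat.card H ≠ p) :
    p ≤ 2 * n + 1 := by
  by_contra hlt
  obtain ⟨k, _, _, _, r, σ, hr, hσ⟩ := exists_faithful_reduction ρ hρ hsq hnn
  obtain ⟨x, hx⟩ := exists_prime_orderOf_dvd_card' p hdiv
  rcases normal_or_many_conj hx hsq σ hσ (by rw [Module.finrank_fin_fun]; omega) with
    hN | ⟨A, hA, hAe⟩
  · exact hnn _ hN (by rw [Nat.card_zpowers, hx])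
  have := card_conj_powers_le ρ hρ hx hAe
  omega

set_option maxHeartbeats 1600000 in
/-- In the boundary case a faithful modular representation has `PSL₂(p)` as a quotient. -/
theorem exists_psl_of_modular {k : Type*} [Field k] [IsAlgClosed k] {p : ℕ} [Fact p.Prime] [CharP k p]
    {G : Type*} [Group G] [Finite G] {V : Type*} [AddCommGroup V] [Module k V]
    [FiniteDimensional k V] (τ : Representation k G V) (hτ : Function.Injective τ)
    (hn' : 2 * finrank k V + 1 ≤ p) (hp5 : 5 ≤ p) (hsq : ¬ p ^ 2 ∣ Nat.card G)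
    (hnn : ∀ H : Subgroup G, H.Normal → Nat.card H ≠ p) {x : G} (hx : orderOf x = p)
    (hAn' : ∀ A : Finset (ZMod p), (∀ a ∈ A, ∃ g : G, g * x * g⁻¹ = x ^ a.val) → 2 * A.card + 1 ≤ p) :
    ∃ π : G →* Matrix.ProjectiveSpecialLinearGroup (Fin 2) (ZMod p), Function.Surjective π ∧
      ¬ p ∣ Nat.card π.ker ∧ ∀ l ∈ π.ker, l * x = x * l := by
  classical
  have hP : p.Prime := Fact.out
  have hxp : x ^ p = 1 := hx ▸ pow_orderOf_eq_one x
  have hτx : τ x ≠ 1 := fun h => hP.ne_one (by
    rw [← hx, hτ (h.trans (map_one τ).symm), orderOf_one])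
  obtain ⟨W, hW3, hWinv, hWnd, Z, hZW, hZ⟩ := exists_three τ hx hsq hτx hn'
  let σ : Representation k G W :=
    { toFun := fun g => (τ.linHom τ g).restrict (hWinv g)
      map_one' := LinearMap.ext fun v => Subtype.ext (LinearMap.congr_fun (map_one (τ.linHom τ)) _)
      map_mul' := fun g g' => LinearMap.ext fun v =>
        Subtype.ext (LinearMap.congr_fun (map_mul (τ.linHom τ) g g') _) }
  have hσ : ∀ g (Y : W), ((σ g Y : W) : Module.End k V) = τ.linHom τ g (Y : _) :=
    fun g Y => rfl
  let B : W →ₗ[k] W →ₗ[k] k :=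
    LinearMap.mk₂ k (fun Y U : W => LinearMap.trace k V
        ((Y : Module.End k V) * (U : Module.End k V)))
      (fun a b c => by simp [add_mul]) (fun r a b => by simp)
      (fun a b c => by simp [mul_add]) (fun r a b => by simp)
  have hB : IsOrth3 B := ⟨fun u v => LinearMap.trace_mul_comm k _ _,
    fun v hv => Subtype.ext (hWnd v v.2 fun U hU => hv ⟨U, hU⟩), hW3, by
      have := factorial_ne_zero_of_lt (k := k) (p := p) (i := 2) (by omega)
      simpa using this⟩
  have hiso : ∀ g (u v : W), B (σ g u) (σ g v) = B u v := fun g u v => by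
    show LinearMap.trace k _ (_ * _) = LinearMap.trace k _ (_ * _)
    rw [hσ, hσ, trace_linHom]
  have hσx : σ x ≠ 1 := fun h => hZ (by
    have h1 : σ x⁻¹ = 1 := by
      rw [← mul_one (σ x⁻¹), ← h, ← map_mul, inv_mul_cancel, map_one, h]
    have h2 : τ.linHom τ x⁻¹ Z = Z := by
      have := congrArg Subtype.val (LinearMap.congr_fun h1 ⟨Z, hZW⟩)
      exact this
    simp [pow_two, Module.End.mul_apply, h2])
  -- correct the determinant
  let d : G →* k :=
    { toFun := fun g => LinearMap.det (σ g)
      map_one' := by rw [map_one, map_one]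
      map_mul' := fun a b => by rw [map_mul, map_mul] }
  have hd : ∀ g, d g * d g = 1 := by
    intro g
    obtain ⟨e, he, hee, l, hl⟩ := (show ∃ e : W, e ≠ 0 ∧ B e e = 0 ∧ True ∧ True by
      haveI : Nontrivial W := Module.nontrivial_of_finrank_eq_succ hW3
      obtain ⟨a, ha⟩ := exists_ne (0 : W)
      let bb := Module.finBasisOfFinrankEq k W hW3
      have hli : LinearIndependent k ![bb 0, bb 1] := by
        have h1 := bb.linearIndependent.comp ![0, 1] (by decide)
        have h2 : bb ∘ ![0, 1] = ![bb 0, bb 1] := by funext i; fin_cases i <;> rfl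
        rwa [h2] at h1
      obtain ⟨v, -, hv, hvv⟩ := exists_iso_vec hB hli
      exact ⟨v, hv, hvv, trivial, trivial⟩)
    obtain ⟨h, f, F⟩ := exists_frame_at hB he hee
    let b := IsFrame.basis hB F
    have hBg : B.compl₁₂ (σ g) (σ g) = B :=
      LinearMap.ext fun u => LinearMap.ext fun v => hiso g u v
    have h1 := LinearMap.toMatrix₂_compl₁₂ b b b b B (σ g) (σ g)
    rw [hBg] at h1
    have h2 := congrArg Matrix.det h1
    rw [Matrix.det_mul, Matrix.det_mul, Matrix.det_transpose] at h2
    have h5 : (LinearMap.toMatrix b b (σ g)).det = LinearMap.det (σ g) := by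
      exact LinearMap.det_toMatrix b (σ g)
    rw [h5] at h2
    have h3 : (LinearMap.toMatrix₂ b b B).det ≠ 0 := by
      rw [Matrix.det_fin_three]
      simp [LinearMap.toMatrix₂_apply, b, IsFrame.basis_coe, F.ee, F.ff, F.ef, F.eh, F.fh, F.hh,
        hB.symm f e, hB.symm h e, hB.symm h f]
    refine mul_right_cancel₀ h3 ?_
    show LinearMap.det (σ g) * LinearMap.det (σ g) * _ = 1 * _
    linear_combination -h2
  let σ' : G →* Module.End k W :=
    { toFun := fun g => d g • σ g
      map_one' := by rw [map_one, map_one, one_smul]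
      map_mul' := fun g g' => by rw [map_mul, map_mul, smul_mul_smul_comm] }
  have hσ' : ∀ g, σ' g = d g • σ g := fun g => rfl
  have hSO' : ∀ g, IsSO B (σ' g) := fun g => by
    refine ⟨fun u v => ?_, ?_⟩
    · rw [hσ', LinearMap.smul_apply, LinearMap.smul_apply, map_smul, map_smul,
        LinearMap.smul_apply, smul_smul, hd, one_smul, hiso]
    · rw [hσ', LinearMap.det_smul, hW3]
      show d g ^ 3 * d g = 1
      linear_combination (d g * d g + 1) * hd g
  have hdx : d x = 1 := by
    have h1 : d x ^ p = 1 := by rw [← map_pow, hxp, map_one]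
    have h2 : (d x - 1) ^ p = 0 := by rw [sub_pow_char, one_pow, h1, sub_self]
    exact sub_eq_zero.1 (eq_zero_of_pow_eq_zero h2)
  let θ : G →* (Module.End k W)ˣ := σ'.toHomUnits
  let L : Subgroup G := θ.ker
  have hLmem : ∀ g, g ∈ L ↔ σ' g = 1 := fun g => by
    rw [MonoidHom.mem_ker, Units.ext_iff]; rfl
  have hxL : x ∉ L := fun h => hσx (by
    have := (hLmem x).1 h
    rwa [hσ', hdx, one_smul] at this)
  have hLp : ¬ p ∣ Nat.card L := by
    intro hdvd
    obtain ⟨y, hy⟩ := exists_prime_orderOf_dvd_card' (G := L) p hdvd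
    rw [← Subgroup.orderOf_coe] at hy
    have hfac : (Nat.card G).factorization p = 1 :=
      le_antisymm (Nat.lt_succ_iff.1 (not_le.1 fun h => hsq
        ((hP.pow_dvd_iff_le_factorization Nat.card_pos.ne').2 h)))
        (hP.factorization_pos_of_dvd Nat.card_pos.ne' (hx ▸ orderOf_dvd_natCard x))
    have hS : ∀ z : G, orderOf z = p → ∃ S : Sylow p G, (S : Subgroup G) = Subgroup.zpowers z := by
      intro z hz
      refine ⟨Sylow.ofCard (Subgroup.zpowers z) ?_, rfl⟩
      rw [Nat.card_zpowers, hz, hfac, pow_one]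
    obtain ⟨Sx, hSx⟩ := hS x hx
    obtain ⟨Sy, hSy⟩ := hS (y : G) hy
    obtain ⟨g, hg⟩ := MulAction.exists_smul_eq G Sy Sx
    have hle : (Sx : Subgroup G) ≤ L := by
      rw [← hg]
      rintro z ⟨u, hu, rfl⟩
      exact (MonoidHom.normal_ker θ).conj_mem u ((Subgroup.zpowers_le.2 y.2) (hSy ▸ hu)) g
    exact hxL (hle (hSx ▸ Subgroup.mem_zpowers x))
  haveI : L.Normal := MonoidHom.normal_ker _
  have hcentral : ∀ l ∈ L, l * x = x * l := by
    intro l hl
    let K := L ⊔ Subgroup.zpowers x
    have hxK : x ∈ K := Subgroup.mem_sup_right (Subgroup.mem_zpowers x)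
    have hLK : L ≤ K := le_sup_left
    haveI : (L.subgroupOf K).Normal := Subgroup.Normal.subgroupOf inferInstance K
    have h1 : τ (l * x * l⁻¹ * x⁻¹) = 1 := by
      refine centralizes_of_small (p := p) (H := K) (L := L.subgroupOf K) (x := ⟨x, hxK⟩) ?_ ?_ ?_ ?_
        (τ.comp K.subtype) hn' ⟨l, hLK hl⟩ hl
      · rw [Subgroup.orderOf_mk, hx]
      · exact fun h => hsq (h.trans (Subgroup.card_subgroup_dvd_card K))
      · rw [Nat.card_congr (Subgroup.subgroupOfEquivOfLe hLK).toEquiv]
        exact hLp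
      · intro h
        have hmem : (h : G) ∈ ((L : Set G) * (Subgroup.zpowers x : Set G)) :=
          Subgroup.normal_mul L (Subgroup.zpowers x) ▸ h.2
        obtain ⟨a, ha, b, hb, hab⟩ := hmem
        rw [SetLike.mem_coe, mem_zpowers_iff_mem_range_orderOf, Finset.mem_image] at hb
        obtain ⟨i, -, rfl⟩ := hb
        exact ⟨⟨a, hLK ha⟩, ha, i, Subtype.ext hab.symm⟩
    have h2 := hτ (h1.trans (map_one τ).symm)
    rwa [mul_inv_eq_one, mul_inv_eq_iff_eq_mul] at h2
  have hlift : ∀ (g : G) (a : ℕ), θ (g * x * g⁻¹) = θ (x ^ a) → g * x * g⁻¹ = x ^ a := by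
    intro g a ha
    set l := (x ^ a)⁻¹ * (g * x * g⁻¹) with hl
    have hlL : l ∈ L := by
      rw [MonoidHom.mem_ker, hl, map_mul, ha, ← map_mul, inv_mul_cancel, map_one]
    have h1 : l ^ p = 1 := by
      have h2 : (g * x * g⁻¹) ^ p = 1 := by rw [conj_pow, hxp, mul_one, mul_inv_cancel]
      have hlx : Commute l x := hcentral l hlL
      rw [show g * x * g⁻¹ = x ^ a * l by rw [hl, mul_inv_cancel_left],
        ((hlx.pow_right a).symm).mul_pow, ← pow_mul, mul_comm a p, pow_mul, hxp, one_pow,
        one_mul] at h2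
      exact h2
    have h3 : l = 1 := by
      by_contra hne
      refine hLp ?_
      rw [← orderOf_eq_prime h1 hne, ← Subgroup.orderOf_mk l hlL]
      exact orderOf_dvd_natCard _
    rw [hl, inv_mul_eq_one] at h3
    exact h3.symm
  let H := θ.range
  let φ : H →* Module.End k W := (Units.coeHom _).comp H.subtype
  have hφ : Function.Injective φ := fun a b h => Subtype.ext (Units.ext h)
  have hSO : ∀ h : H, IsSO B (φ h) := by
    rintro ⟨_, g, rfl⟩
    exact hSO' g
  haveI : Finite H := Finite.of_surjective θ.rangeRestrict θ.rangeRestrict_surjective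
  let xb : H := θ.rangeRestrict x
  have hxb : orderOf xb = p := by
    refine orderOf_eq_prime (by rw [← map_pow, hxp, map_one]) fun h => hxL ?_
    rw [MonoidHom.mem_ker]
    exact congrArg Subtype.val h
  have hsqH : ¬ p ^ 2 ∣ Nat.card H := fun h => hsq (h.trans (Subgroup.card_range_dvd θ))
  rcases conic' hB φ hφ hSO hp5 hxb hsqH with h |
    ⟨A, e, u, g₀, he, heA, hAe, hcard, hu, huu, hxu, hg₀, horb⟩
  · exfalso
    refine hnn (Subgroup.zpowers x) ⟨fun z hz g => ?_⟩ (by rw [Nat.card_zpowers, hx])
    obtain ⟨i, rfl⟩ := hz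
    have h1 := h (θ.rangeRestrict (g * x * g⁻¹))
      (by rw [← map_pow, conj_pow, hxp, mul_one, mul_inv_cancel, map_one])
    rw [mem_zpowers_iff_mem_range_orderOf, Finset.mem_image] at h1
    obtain ⟨a, -, ha⟩ := h1
    have h2 := hlift g a (by rw [map_pow]; exact (congrArg Subtype.val ha).symm)
    show g * x ^ i * g⁻¹ ∈ _
    rw [← conj_zpow, h2]
    exact Subgroup.zpow_mem _ (Subgroup.pow_mem _ (Subgroup.mem_zpowers x) a) i
  have hAn := hAn' A fun a ha => by
    obtain ⟨⟨_, g, rfl⟩, hs⟩ := hAe a ha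
    refine ⟨g, hlift g a.val ?_⟩
    have := congrArg Subtype.val hs
    rw [map_mul, map_mul, map_inv, map_pow]
    exact this
  have he2 : 2 * e = p - 1 := by omega
  obtain ⟨eqv⟩ := equiv_psl_of_card hB φ hφ hSO hp5 hxb (by
    rw [hcard, show 2 * (p * e * (p + 1)) = p * ((2 * e) * (p + 1)) by ring, he2,
      mul_comm (p - 1), ← Nat.sq_sub_sq p 1, one_pow]) hu huu hxu hg₀ horb
  let π : G →* Matrix.ProjectiveSpecialLinearGroup (Fin 2) (ZMod p) :=
    eqv.toMonoidHom.comp θ.rangeRestrict
  have hπker : π.ker = L := by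
    ext g
    rw [MonoidHom.mem_ker, MonoidHom.mem_ker]
    show eqv (θ.rangeRestrict g) = 1 ↔ _
    rw [MulEquiv.map_eq_one_iff, Subtype.ext_iff]
    rfl
  exact ⟨π, eqv.surjective.comp θ.rangeRestrict_surjective, hπker ▸ hLp,
    fun l hl => hcentral l (hπker ▸ hl)⟩

/-- In the boundary case the group modulo a centralised kernel is `PSL₂(p)`. -/
theorem exists_psl_quotient {G : Type*} [Group G] [Finite G] {p : ℕ} [Fact p.Prime] {n : ℕ}
    (ρ : Representation ℂ G (Fin n → ℂ)) (hρ : Function.Injective ρ) (hdeg : 2 * n + 1 = p)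
    (hp5 : 5 ≤ p) (hsq : ¬ p ^ 2 ∣ Nat.card G) (hnn : ∀ H : Subgroup G, H.Normal → Nat.card H ≠ p)
    {x : G} (hx : orderOf x = p) :
    ∃ π : G →* Matrix.ProjectiveSpecialLinearGroup (Fin 2) (ZMod p), Function.Surjective π ∧
      ¬ p ∣ Nat.card π.ker ∧ ∀ l ∈ π.ker, l * x = x * l := by
  obtain ⟨k, _, _, _, r, τ, hr, hτ⟩ := exists_faithful_reduction ρ hρ hsq hnn
  refine exists_psl_of_modular τ hτ (by rw [Module.finrank_fin_fun]; omega) hp5 hsq hnn hx
    fun A hA => ?_
  have := card_conj_powers_le ρ hρ hx hA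
  omega

/-- The boundary case: `G/Z(G)` is `PSL₂(p)`. -/
theorem psl_of_boundary {G : Type*} [Group G] [Finite G] {p : ℕ} [Fact p.Prime] {n : ℕ}
    (ρ : Representation ℂ G (Fin n → ℂ)) (hρ : Function.Injective ρ) (hdeg : 2 * n + 1 = p)
    (hp5 : 5 ≤ p) (hsq : ¬ p ^ 2 ∣ Nat.card G) (hnn : ∀ H : Subgroup G, H.Normal → Nat.card H ≠ p)
    (hdiv : p ∣ Nat.card G) :
    Nonempty ((G ⧸ Subgroup.center G) ≃* Matrix.ProjectiveSpecialLinearGroup (Fin 2) (ZMod p)) := by
  classical
  have hP : p.Prime := Fact.out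
  obtain ⟨x, hx⟩ := exists_prime_orderOf_dvd_card' p hdiv
  obtain ⟨π, hπ, hπp, hπx⟩ := exists_psl_quotient ρ hρ hdeg hp5 hsq hnn hx
  haveI hsimple := CfsgLib.Small.isSimple_PSL_two (F := ZMod p) (ZMod.card p) (by omega)
  let N := Subgroup.normalClosure ({x} : Set G)
  have hxN : x ∈ N := Subgroup.subset_normalClosure rfl
  have hxπ : π x ≠ 1 := fun h => hπp (by
    have h1 := orderOf_dvd_natCard (⟨x, MonoidHom.mem_ker.2 h⟩ : π.ker)
    rwa [Subgroup.orderOf_mk, hx] at h1)
  have hNtop : N.map π = ⊤ := by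
    haveI := Subgroup.Normal.map (H := N) Subgroup.normalClosure_normal π hπ
    refine (Subgroup.Normal.eq_bot_or_eq_top this).resolve_left fun h => hxπ ?_
    exact (Subgroup.mem_bot).1 (h ▸ Subgroup.mem_map_of_mem π hxN)
  have hcomm : ∀ l ∈ π.ker, ∀ g ∈ N, l * g = g * l := by
    intro l hl g hg
    have hle : N ≤ Subgroup.centralizer (π.ker : Set G) := by
      haveI : (Subgroup.centralizer (π.ker : Set G)).Normal :=
        Subgroup.normal_centralizer (H := π.ker)
      refine Subgroup.normalClosure_le_normal ?_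
      rw [Set.singleton_subset_iff, SetLike.mem_coe, Subgroup.mem_centralizer_iff]
      exact hπx
    exact Subgroup.mem_centralizer_iff.1 (hle hg) l hl
  -- `N` acts irreducibly
  have hsmallkill : ∀ (m : ℕ) (τ : Representation ℂ N (Fin m → ℂ)), m < n → τ ⟨x, hxN⟩ = 1 := by
    intro m τ hm
    by_contra hτx
    let K := τ.asGroupHom.ker
    have hKmem : ∀ g, g ∈ K ↔ τ g = 1 := fun g => by
      rw [MonoidHom.mem_ker, Units.ext_iff, Representation.asGroupHom_apply]; rfl
    haveI : K.Normal := MonoidHom.normal_ker _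
    let τb : Representation ℂ (N ⧸ K) (Fin m → ℂ) :=
      (Units.coeHom _).comp (QuotientGroup.kerLift τ.asGroupHom)
    have hτb : Function.Injective τb :=
      Units.val_injective.comp (QuotientGroup.kerLift_injective τ.asGroupHom)
    have hxK : (⟨x, hxN⟩ : N) ∉ K := fun h => hτx ((hKmem _).1 h)
    have hord : orderOf (QuotientGroup.mk' K ⟨x, hxN⟩) = p := by
      refine orderOf_eq_prime ?_ fun h => hxK ((QuotientGroup.eq_one_iff _).1 h)
      rw [← map_pow, show (⟨x, hxN⟩ : N) ^ p = 1 from Subtype.ext (by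
        push_cast; rw [← hx, pow_orderOf_eq_one]), map_one]
    have hKp : ¬ p ∣ Nat.card K := by
      intro hd
      apply hsq
      refine dvd_trans ?_ (Subgroup.card_subgroup_dvd_card N)
      rw [Subgroup.card_eq_card_quotient_mul_card_subgroup K, sq]
      refine mul_dvd_mul ?_ hd
      exact (hord ▸ orderOf_dvd_natCard (QuotientGroup.mk' K ⟨x, hxN⟩) :)
    have hb := two_mul_degree_add_one_ge τb hτb (hord ▸ orderOf_dvd_natCard _)
      (fun h => hsq (h.trans ((Subgroup.card_quotient_dvd_card K).trans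
        (Subgroup.card_subgroup_dvd_card N)))) ?_
    · omega
    intro Q hQ hQp
    -- a normal subgroup of order `p` is everything
    have hQall : ∀ g : N, QuotientGroup.mk' K g ∈ Q := by
      haveI := hQ
      let N' : Subgroup N := Q.comap (QuotientGroup.mk' K)
      have hsub : ∀ g : G, g * x * g⁻¹ ∈ N'.map N.subtype := by
        intro g
        have hgx : g * x * g⁻¹ ∈ N := Subgroup.Normal.conj_mem Subgroup.normalClosure_normal x hxN g
        have hordg : orderOf (⟨g * x * g⁻¹, hgx⟩ : N) = p := by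
          rw [Subgroup.orderOf_mk, ← hx]
          exact (MulAut.conj g).orderOf_eq x
        refine ⟨⟨_, hgx⟩, ?_, rfl⟩
        show QuotientGroup.mk' K _ ∈ Q
        by_contra hno
        -- its image and `Q` generate a `p`-group of order `p²`
        have hz : QuotientGroup.mk' K (⟨g * x * g⁻¹, hgx⟩ : N) ^ p = 1 := by
          rw [← map_pow, ← hordg, pow_orderOf_eq_one, map_one]
        set z := QuotientGroup.mk' K (⟨g * x * g⁻¹, hgx⟩ : N) with hzdef
        have hne : z ≠ 1 := fun h1 => hno (h1 ▸ one_mem Q)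
        have hZp : IsPGroup p (Subgroup.zpowers z) := IsPGroup.of_card (n := 1)
          (by rw [Nat.card_zpowers, orderOf_eq_prime hz hne, pow_one])
        have hQpg : IsPGroup p Q := IsPGroup.of_card (n := 1) (by rw [hQp, pow_one])
        have hsup : IsPGroup p (Subgroup.zpowers z ⊔ Q : Subgroup (N ⧸ K)) :=
          hZp.to_sup_of_normal_right hQpg
        obtain ⟨j, hj⟩ := IsPGroup.iff_card.1 hsup
        have hj2 : j < 2 := by
          by_contra h2
          exact hsq ((pow_dvd_pow p (not_lt.1 h2)).trans (hj ▸ (Subgroup.card_subgroup_dvd_card _).trans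
            ((Subgroup.card_quotient_dvd_card K).trans (Subgroup.card_subgroup_dvd_card N))))
        have heq : Q = Subgroup.zpowers z ⊔ Q := Subgroup.eq_of_le_of_card_ge le_sup_right (by
          rw [hj, hQp]
          exact (pow_le_pow_right₀ hP.one_le (show j ≤ 1 by omega)).trans (pow_one p).le)
        exact hno (heq ▸ Subgroup.mem_sup_left (Subgroup.mem_zpowers z))
      have hle : N ≤ N'.map N.subtype := by
        show Subgroup.normalClosure ({x} : Set G) ≤ _
        refine (Subgroup.closure_le _).2 fun y hy => ?_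
        obtain ⟨a, ha, hay⟩ := Group.mem_conjugatesOfSet_iff.1 hy
        rw [Set.mem_singleton_iff] at ha
        subst ha
        obtain ⟨g, rfl⟩ := isConj_iff.1 hay
        exact hsub g
      intro g
      obtain ⟨g', hg', he⟩ := hle g.2
      rw [← Subtype.ext he]
      exact hg'
    have hNK : Nat.card (N ⧸ K) = p := by
      have hQT : Q = ⊤ := (Subgroup.eq_top_iff' Q).2 fun q => by
        obtain ⟨g, rfl⟩ := QuotientGroup.mk'_surjective K q
        exact hQall g
      rw [← hQp, hQT, Subgroup.card_top]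
    -- the image of `K` in `PSL₂(p)` is trivial
    let φN : N →* Matrix.ProjectiveSpecialLinearGroup (Fin 2) (ZMod p) := π.comp N.subtype
    have hφN : Function.Surjective φN := fun q => by
      obtain ⟨g, hg, rfl⟩ := (hNtop ▸ Subgroup.mem_top q : q ∈ N.map π)
      exact ⟨⟨g, hg⟩, rfl⟩
    haveI := Subgroup.Normal.map (H := K) inferInstance φN hφN
    rcases Subgroup.Normal.eq_bot_or_eq_top this with hbot | htop
    · have hle : K ≤ φN.ker := (Subgroup.map_eq_bot_iff K).1 hbot
      have h1 : Nat.card (Matrix.ProjectiveSpecialLinearGroup (Fin 2) (ZMod p)) ∣ p := by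
        have e := Subgroup.index_ker φN
        rw [MonoidHom.range_eq_top.2 hφN, Subgroup.card_top] at e
        rw [← e]
        exact (Subgroup.index_dvd_of_le hle).trans (dvd_of_eq hNK)
      have h2 := CfsgLib.Small.card_PSL_two_prime (F := ZMod p) (ZMod.card p)
        (hP.odd_of_ne_two (by omega))
      have h3 := Nat.le_of_dvd hP.pos h1
      have h4 : 25 - 1 ≤ p ^ 2 - 1 := Nat.sub_le_sub_right (by nlinarith) 1
      nlinarith
    · have h1 : p ∣ Nat.card (K.map φN) := by
        rw [htop, Subgroup.card_top]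
        obtain h2 := CfsgLib.Small.card_PSL_two_prime (F := ZMod p) (ZMod.card p)
          (hP.odd_of_ne_two (by omega))
        exact ((Nat.coprime_primes hP Nat.prime_two).2 (by omega)).dvd_of_dvd_mul_left
          (h2 ▸ dvd_mul_right p _)
      exact hKp (h1.trans (Subgroup.card_map_dvd K φN))
  have hirr : ∀ U : Submodule ℂ (Fin n → ℂ), (∀ g ∈ N, ∀ v ∈ U, ρ g v ∈ U) → U = ⊥ ∨ U = ⊤ := by
    intro U hU
    by_contra hno
    rw [not_or] at hno
    have hd1 : finrank ℂ U < n := by
      have := Submodule.finrank_lt hno.2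
      rwa [Module.finrank_fin_fun] at this
    have hd2 : finrank ℂ ((Fin n → ℂ) ⧸ U) < n := by
      have h1 := Submodule.finrank_quotient_add_finrank U
      rw [Module.finrank_fin_fun] at h1
      have : 0 < finrank ℂ U := Nat.pos_of_ne_zero fun h => hno.1 (Submodule.finrank_eq_zero.1 h)
      omega
    let e1 := (Module.finBasis ℂ U).equivFun
    let e2 := (Module.finBasis ℂ ((Fin n → ℂ) ⧸ U)).equivFun
    let ρU : Representation ℂ N U :=
      { toFun := fun g => (ρ g).restrict (hU g g.2)
        map_one' := LinearMap.ext fun v => Subtype.ext (LinearMap.congr_fun (map_one ρ) _)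
        map_mul' := fun g g' => LinearMap.ext fun v =>
          Subtype.ext (LinearMap.congr_fun (map_mul ρ (g : G) g') _) }
    let ρQ : Representation ℂ N ((Fin n → ℂ) ⧸ U) :=
      { toFun := fun g => U.mapQ U (ρ g) (fun v hv => hU g g.2 v hv)
        map_one' := LinearMap.ext fun q => by
          induction q using Submodule.Quotient.induction_on with | _ v => ?_
          simp [map_one]
        map_mul' := fun g g' => LinearMap.ext fun q => by
          induction q using Submodule.Quotient.induction_on with | _ v => ?_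
          simp [map_mul] }
    have h1 := hsmallkill _ (e1.conjAlgEquiv ℂ |>.toAlgHom.toMonoidHom.comp ρU) hd1
    have h2 := hsmallkill _ (e2.conjAlgEquiv ℂ |>.toAlgHom.toMonoidHom.comp ρQ) hd2
    have h1' : ρU ⟨x, hxN⟩ = 1 := (e1.conjAlgEquiv ℂ).injective (h1.trans (map_one _).symm)
    have h2' : ρQ ⟨x, hxN⟩ = 1 := (e2.conjAlgEquiv ℂ).injective (h2.trans (map_one _).symm)
    have hsub : ∀ v, ρ x v - v ∈ U := fun v => by
      rw [← Submodule.Quotient.eq]
      exact LinearMap.congr_fun h2' (Submodule.Quotient.mk v)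
    have hid : ∀ v ∈ U, ρ x v = v := fun v hv =>
      congrArg Subtype.val (LinearMap.congr_fun h1' ⟨v, hv⟩)
    have hpow : ∀ (j : ℕ) v, ρ (x ^ j) v = v + (j : ℂ) • (ρ x v - v) := by
      intro j v
      induction j with
      | zero => simp
      | succ j ih =>
        rw [pow_succ', map_mul, Module.End.mul_apply, ih, map_add, map_smul, hid _ (hsub v),
          Nat.cast_succ, add_smul, one_smul]
        abel
    have hρx : ρ x = 1 := LinearMap.ext fun v => by
      have h3 := hpow p v
      rw [show x ^ p = 1 by rw [← hx, pow_orderOf_eq_one], map_one, Module.End.one_apply,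
        left_eq_add, smul_eq_zero] at h3
      exact sub_eq_zero.1 (h3.resolve_left (Nat.cast_ne_zero.2 hP.ne_zero))
    exact hP.ne_one (by rw [← hx, hρ (hρx.trans (map_one ρ).symm), orderOf_one])
  have hscalar : ∀ l ∈ π.ker, ∃ c : ℂ, ρ l = c • (1 : Module.End ℂ (Fin n → ℂ)) := by
    intro l hl
    haveI : Nonempty (Fin n) := ⟨⟨0, by omega⟩⟩
    obtain ⟨c, hc⟩ := Module.End.exists_eigenvalue (ρ l)
    have htop := (hirr (Module.End.eigenspace (ρ l) c) fun g hg v hv => by
      rw [Module.End.mem_eigenspace_iff] at hv ⊢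
      rw [← Module.End.mul_apply, ← map_mul, hcomm l hl g hg, map_mul, Module.End.mul_apply, hv,
        map_smul]).resolve_left hc
    refine ⟨c, LinearMap.ext fun v => ?_⟩
    have : v ∈ Module.End.eigenspace (ρ l) c := htop ▸ Submodule.mem_top
    simpa using Module.End.mem_eigenspace_iff.1 this
  have hker : π.ker = Subgroup.center G := by
    refine le_antisymm (fun l hl => Subgroup.mem_center_iff.2 fun g => hρ ?_) fun z hz => ?_
    · obtain ⟨c, hc⟩ := hscalar l hl
      rw [map_mul, map_mul, hc, mul_smul_comm, smul_mul_assoc, mul_one, one_mul]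
    · rw [MonoidHom.mem_ker]
      have hmem : π z ∈ Subgroup.center _ := Subgroup.mem_center_iff.2 fun q => by
        obtain ⟨g, rfl⟩ := hπ q
        rw [← map_mul, ← map_mul, Subgroup.mem_center_iff.1 hz g]
      rcases Subgroup.Normal.eq_bot_or_eq_top
        (inferInstance : (Subgroup.center (Matrix.ProjectiveSpecialLinearGroup (Fin 2) (ZMod p))).Normal)
        with hb | ht
      · exact (Subgroup.mem_bot).1 (hb ▸ hmem)
      · exfalso
        -- a commutative simple group has prime order
        have h2 := CfsgLib.Small.card_PSL_two_prime (F := ZMod p) (ZMod.card p)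
          (hP.odd_of_ne_two (by omega))
        obtain ⟨y, hy⟩ := exists_prime_orderOf_dvd_card'
          (G := Matrix.ProjectiveSpecialLinearGroup (Fin 2) (ZMod p)) p
          (((Nat.coprime_primes hP Nat.prime_two).2 (by omega)).dvd_of_dvd_mul_left
            (h2 ▸ dvd_mul_right p _))
        have hn : (Subgroup.zpowers y).Normal := ⟨fun z hz q => by
          have hc : z * q = q * z := Subgroup.mem_center_iff.1 (ht ▸ Subgroup.mem_top q) z
          rwa [← hc, mul_inv_cancel_right]⟩
        have htop : Subgroup.zpowers y = ⊤ :=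
          (Subgroup.Normal.eq_bot_or_eq_top hn).resolve_left fun h => hP.ne_one (by
            rw [← hy, Subgroup.zpowers_eq_bot.1 h, orderOf_one])
        rw [← Subgroup.card_top, ← htop, Nat.card_zpowers, hy] at h2
        have h4 : 25 - 1 ≤ p ^ 2 - 1 := Nat.sub_le_sub_right (by nlinarith) 1
        nlinarith
  exact ⟨(QuotientGroup.quotientMulEquivOfEq hker.symm).trans
    (QuotientGroup.quotientKerEquivOfSurjective π hπ)⟩

end CfsgLib.SmallDegree
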