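import Cfsg.Agent.Lib.SmallDegree.Triple

/-!
# A three dimensional orthogonal module from a small modular representation
-/

set_option autoImplicit false
set_option linter.unusedSectionVars false
set_option linter.style.haveILetI false

namespace CfsgLib.SmallDegree

open Finset Module

variable {k : Type*} [Field k] {p : ℕ} [Fact p.Prime] [CharP k p]

theorem sum_pow_eq_sub_one_pow {R : Type*} [Ring R] [Algebra k R] (a : R) :
    ∑ i ∈ range p, a ^ i = (a - 1) ^ (p - 1) := by
  have hP := Fact.out (p := p.Prime)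
  have h : ∑ i ∈ range p, (Polynomial.X : Polynomial k) ^ i = (Polynomial.X - 1) ^ (p - 1) := by
    refine mul_right_cancel₀ (sub_ne_zero.2 (by
      intro h
      simpa using congrArg Polynomial.natDegree h) : (Polynomial.X - 1 : Polynomial k) ≠ 0) ?_
    rw [geom_sum_mul, ← pow_succ, Nat.sub_add_cancel hP.one_le, sub_pow_char, one_pow]
  simpa [map_sum] using congrArg (Polynomial.aeval a) h

section Fixed

variable {M : Type*} [AddCommGroup M] [Module k M]

theorem exists_fixed_ne_zero {A : Module.End k M} {r : ℕ} (hr : (A - 1) ^ r = 0)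
    {S : Submodule k M} (hS : ∀ v ∈ S, A v ∈ S) (hne : S ≠ ⊥) :
    ∃ w ∈ S, w ≠ 0 ∧ A w = w := by
  obtain ⟨v, hv, hv0⟩ := S.exists_mem_ne_zero_of_ne_bot hne
  have hex : ∀ j, j ≤ r → ((A - 1) ^ j : Module.End k M) v ∈ S := fun j _ => by
    induction j with
    | zero => simpa using hv
    | succ j ih =>
      rw [pow_succ', Module.End.mul_apply, LinearMap.sub_apply, Module.End.one_apply]
      exact S.sub_mem (hS _ (ih (by omega))) (ih (by omega))
  classical
  have hlast : ∃ j, ((A - 1) ^ j : Module.End k M) v = 0 := ⟨r, by rw [hr]; rfl⟩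
  have hspec := Nat.find_spec hlast
  have hle := Nat.find_min' hlast (show ((A - 1) ^ r : Module.End k M) v = 0 by rw [hr]; rfl)
  rcases hq : Nat.find hlast with _ | q
  · rw [hq] at hspec
    exact absurd (by simpa using hspec) hv0
  · refine ⟨((A - 1) ^ q : Module.End k M) v, hex q (by omega), Nat.find_min hlast (by omega), ?_⟩
    rw [hq, pow_succ', Module.End.mul_apply, LinearMap.sub_apply, Module.End.one_apply,
      sub_eq_zero] at hspec
    exact hspec

end Fixed

variable {V : Type*} [AddCommGroup V] [Module k V] [FiniteDimensional k V]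
variable {G : Type*} [Group G]

theorem linHom_mul (ρ : Representation k G V) (g : G) (Y Z : Module.End k V) :
    ρ.linHom ρ g (Y * Z) = ρ.linHom ρ g Y * ρ.linHom ρ g Z := by
  simp only [Representation.linHom_apply, Module.End.mul_eq_comp, LinearMap.comp_assoc]
  rw [← LinearMap.comp_assoc _ (ρ g) (ρ g⁻¹), ← Module.End.mul_eq_comp (ρ g⁻¹), ← map_mul,
    inv_mul_cancel, map_one, Module.End.one_eq_id, LinearMap.id_comp]

theorem linHom_eq (ρ : Representation k G V) (g : G) (Z : Module.End k V) :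
    ρ.linHom ρ g Z = ρ g * Z * ρ g⁻¹ := by
  rw [Representation.linHom_apply, Module.End.mul_eq_comp, Module.End.mul_eq_comp,
    LinearMap.comp_assoc]

theorem trace_linHom (ρ : Representation k G V) (g : G) (Y Z : Module.End k V) :
    LinearMap.trace k V (ρ.linHom ρ g Y * ρ.linHom ρ g Z) = LinearMap.trace k V (Y * Z) := by
  rw [← linHom_mul, linHom_eq, LinearMap.trace_mul_comm, ← mul_assoc, ← map_mul, inv_mul_cancel,
    map_one, one_mul]

/-- The conjugation automorphism of the endomorphism algebra. -/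
noncomputable def conjAlg (ρ : Representation k G V) (g : G) :
    Module.End k V →ₐ[k] Module.End k V :=
  AlgHom.ofLinearMap (ρ.linHom ρ g) (by rw [linHom_eq, mul_one, ← map_mul, mul_inv_cancel, map_one])
    (linHom_mul ρ g)

theorem conjAlg_apply (ρ : Representation k G V) (g : G) (Z : Module.End k V) :
    conjAlg ρ g Z = ρ g * Z * ρ g⁻¹ := linHom_eq ρ g Z

theorem eq_zero_of_trace_mul {Z : Module.End k V}
    (h : ∀ Y : Module.End k V, LinearMap.trace k V (Y * Z) = 0) : Z = 0 := by
  refine LinearMap.ext fun v => ?_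
  by_contra hv
  rw [LinearMap.zero_apply] at hv
  obtain ⟨φ, hφ⟩ : ∃ φ : Module.Dual k V, φ (Z v) = 1 := by
    obtain ⟨φ, hφ⟩ := not_forall.1 fun hall => hv ((Module.forall_dual_apply_eq_zero_iff k _).1 hall)
    exact ⟨(φ (Z v))⁻¹ • φ, by rw [LinearMap.smul_apply, smul_eq_mul, inv_mul_cancel₀ hφ]⟩
  have h1 := h (φ.smulRight v)
  rw [LinearMap.trace_mul_comm, show Z * φ.smulRight v = φ.smulRight (Z v) from
    LinearMap.ext fun w => by simp, LinearMap.trace_smulRight, hφ] at h1
  exact one_ne_zero h1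

/-- The orthogonal projection onto the triple. -/
theorem exists_orthProj {X lam : Module.End k V} {m : ℕ} (h : IsTopSection X lam m) (hp : 3 < p)
    (hm : m + 1 < p) (hV : finrank k V < p) :
    ∃ π : Module.End k (Module.End k V), (∀ Z, π Z ∈ tripleSpan X lam m) ∧
      ∀ Z, ∀ Y ∈ tripleSpan X lam m, LinearMap.trace k V (Y * (Z - π Z)) = 0 := by
  obtain ⟨a, ha, hEf, hhh, hEE, hhE, hhf⟩ := trace_triple h hp hm hV
  have h2 : (2 : k) ≠ 0 := by
    have := factorial_ne_zero_of_lt (k := k) (p := p) (i := 2) (by omega)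
    simpa using this
  set E := X * topProj X lam m with hE
  set hh := topH X lam m with hhh'
  set f := topF X lam m with hf
  let T : Module.End k V → Module.Dual k (Module.End k V) := fun Y =>
    (LinearMap.trace k V).comp (LinearMap.mulLeft k Y)
  let π : Module.End k (Module.End k V) :=
    ((a⁻¹) • (T f - (LinearMap.trace k V (f * f) * a⁻¹) • T E)).smulRight E +
      ((2 * a)⁻¹ • T hh).smulRight hh + (a⁻¹ • T E).smulRight f
  refine ⟨π, fun Z => ?_, fun Z Y hY => ?_⟩
  · refine add_mem (add_mem ?_ ?_) ?_ <;>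
      exact Submodule.smul_mem _ _ (Submodule.subset_span (by simp [hE, hhh', hf]))
  induction hY using Submodule.span_induction with
  | mem y hy =>
    simp only [π, T, LinearMap.add_apply, LinearMap.smulRight_apply, LinearMap.smul_apply,
      LinearMap.sub_apply, LinearMap.comp_apply, LinearMap.mulLeft_apply, smul_eq_mul, mul_sub,
      mul_add, mul_smul_comm, map_sub, map_add, map_smul]
    rcases hy with rfl | rfl | rfl
    · rw [← hE, hEE, hEf, LinearMap.trace_mul_comm k E hh, hhE]
      field_simp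
      ring
    · rw [hhE, hhh, hhf]
      field_simp
      ring
    · rw [LinearMap.trace_mul_comm k f E, hEf, LinearMap.trace_mul_comm k f hh, hhf]
      field_simp
      ring
  | zero => simp
  | add y z _ _ hy hz => rw [add_mul, map_add, hy, hz, add_zero]
  | smul r y _ hy => rw [smul_mul_assoc, map_smul, hy, smul_zero]

variable [Finite G]

theorem not_dvd_relIndex_normalizer {x : G} (hx : orderOf x = p) (hsq : ¬ p ^ 2 ∣ Nat.card G) :
    ¬ p ∣ (Subgroup.zpowers x).relIndex (Subgroup.normalizer (Subgroup.zpowers x : Set G)) := by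
  intro hd
  apply hsq
  have h1 := Subgroup.card_mul_index
    ((Subgroup.zpowers x).subgroupOf (Subgroup.normalizer (Subgroup.zpowers x : Set G)))
  rw [Nat.card_congr (Subgroup.subgroupOfEquivOfLe Subgroup.le_normalizer).toEquiv,
    Nat.card_zpowers, hx] at h1
  refine dvd_trans ?_ (Subgroup.card_subgroup_dvd_card
    (Subgroup.normalizer (Subgroup.zpowers x : Set G)))
  rw [← h1, sq]
  exact mul_dvd_mul_left p hd

/-- The twisted nilpotency of conjugation by a unipotent element. -/
theorem linHom_sub_one_pow {ρ : Representation k G V} {x : G}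
    (hn : (ρ x - 1) ^ finrank k V = 0) (hn' : (ρ x⁻¹ - 1) ^ finrank k V = 0)
    (hnp : 2 * finrank k V ≤ p) : (ρ.linHom ρ x - 1) ^ (p - 1) = 0 := by
  set n := finrank k V with hndef
  have heq : ρ.linHom ρ x - 1 = LinearMap.mulLeft k (ρ x - 1) +
      LinearMap.mulLeft k (ρ x) * LinearMap.mulRight k (ρ x⁻¹ - 1) := by
    refine LinearMap.ext fun Z => ?_
    simp only [LinearMap.sub_apply, Module.End.one_apply, LinearMap.add_apply,
      LinearMap.mulLeft_apply, Module.End.mul_apply, LinearMap.mulRight_apply, linHom_eq]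
    noncomm_ring
  have hcL : Commute (LinearMap.mulLeft k (ρ x - 1)) (LinearMap.mulLeft k (ρ x)) :=
    LinearMap.ext fun Z => by
      simp only [Module.End.mul_apply, LinearMap.mulLeft_apply]
      noncomm_ring
  have hLR : ∀ a b : Module.End k V, Commute (LinearMap.mulLeft k a) (LinearMap.mulRight k b) :=
    fun a b => LinearMap.ext fun Z => by simp [mul_assoc]
  rw [heq]
  refine pow_eq_zero_of_le (show n + n - 1 ≤ p - 1 by omega)
    (Commute.add_pow_eq_zero_of_add_le_succ_of_pow_eq_zero (m := n) (n := n)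
      (hcL.mul_right (hLR _ _)) ?_ ?_ (by omega))
  · rw [LinearMap.pow_mulLeft, hn, LinearMap.mulLeft_zero_eq_zero]
  · rw [(hLR _ _).mul_pow, LinearMap.pow_mulRight, hn', LinearMap.mulRight_zero_eq_zero, mul_zero]

theorem sub_one_pow_finrank {ρ : Representation k G V} {x : G} (hx : x ^ p = 1) :
    (ρ x - 1) ^ finrank k V = 0 := by
  have hV : ∀ Y : Module.End k V, IsNilpotent Y → Y ^ finrank k V = 0 := fun Y hY => by
    have := LinearMap.aeval_self_charpoly Y
    rw [IsNilpotent.charpoly_eq_X_pow_finrank hY] at this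
    simpa using this
  refine hV _ ⟨p, ?_⟩
  rcases subsingleton_or_nontrivial V with h | h
  · exact Subsingleton.elim _ _
  haveI : CharP (Module.End k V) p := charP_of_injective_algebraMap'  k p
  rw [sub_pow_char_of_commute (p := p) (Commute.one_right _), one_pow, ← map_pow, hx,
    map_one, sub_self]

/-- A three dimensional non-degenerate invariant space of endomorphisms on which the element of
order `p` has a single Jordan block. -/
theorem exists_three (ρ : Representation k G V) {x : G} (hx : orderOf x = p)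
    (hsq : ¬ p ^ 2 ∣ Nat.card G) (hρx : ρ x ≠ 1) (hn : 2 * finrank k V + 1 ≤ p) :
    ∃ W : Submodule k (Module.End k V), finrank k W = 3 ∧
      (∀ g, ∀ Z ∈ W, ρ.linHom ρ g Z ∈ W) ∧
      (∀ Z ∈ W, (∀ Y ∈ W, LinearMap.trace k V (Y * Z) = 0) → Z = 0) ∧
      ∃ Z ∈ W, ((ρ.linHom ρ x⁻¹ - 1) ^ 2 : Module.End k (Module.End k V)) Z ≠ 0 := by
  classical
  haveI := Fintype.ofFinite G
  have hP := Fact.out (p := p.Prime)
  set n := finrank k V with hndef
  have hxp : x ^ p = 1 := hx ▸ pow_orderOf_eq_one x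
  have hxp' : x⁻¹ ^ p = 1 := by rw [inv_pow, hxp, inv_one]
  -- the logarithm
  set N := ρ x - 1 with hNdef
  have hNn : N ^ n = 0 := sub_one_pow_finrank hxp
  set C := Algebra.adjoin k ({N} : Set (Module.End k V)) with hCdef
  letI : CommRing C := Algebra.adjoinCommRingOfComm k (s := {N}) (by
    rintro a rfl b rfl; rfl)
  obtain ⟨Y₀, ⟨q₀, hq₀⟩, hY₀⟩ := exists_log (k := k) (p := p)
    (N := (⟨N, Algebra.self_mem_adjoin_singleton k N⟩ : C)) (m := n) (Subtype.ext hNn) (by omega)
  set Y : Module.End k V := (Y₀ : Module.End k V) with hYdef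
  have hYmem : Y ∈ C := Y₀.2
  have hexp : expk k p Y = ρ x := by
    have := congrArg C.val hY₀
    rw [map_expT] at this
    refine this.trans ?_
    simp [hNdef]
  have hYn : Y ^ n = 0 := by
    have : Y₀ ^ n = 0 := by
      rw [hq₀, mul_pow, show (⟨N, Algebra.self_mem_adjoin_singleton k N⟩ : C) ^ n = 0 from
        Subtype.ext hNn, zero_mul]
    exact congrArg Subtype.val this
  have hex : ∃ j, Y ^ j = 0 := ⟨n, hYn⟩
  set m := Nat.find hex with hmdef
  have hYm : Y ^ m = 0 := Nat.find_spec hex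
  have hmn : m ≤ n := Nat.find_min' hex hYn
  have hm2 : 2 ≤ m := by
    by_contra h
    have h0 : Y = 0 := by simpa using pow_eq_zero_of_le (show m ≤ 1 by omega) hYm
    rw [h0, expT_zero] at hexp
    exact hρx hexp.symm
  have hne : Y ^ (m - 1) ≠ 0 := Nat.find_min hex (by omega)
  have hp3 : 3 < p := by omega
  -- the normaliser and a complement
  set P := Subgroup.zpowers x with hPdef
  set N₀ := Subgroup.normalizer (P : Set G) with hN₀
  have hrel : ¬ p ∣ P.relIndex N₀ := not_dvd_relIndex_normalizer hx hsq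
  haveI : (P.subgroupOf N₀).Normal := Subgroup.normal_in_normalizer
  obtain ⟨K, hK⟩ := Subgroup.exists_right_complement'_of_coprime (N := P.subgroupOf N₀) (by
    rw [Nat.card_congr (Subgroup.subgroupOfEquivOfLe Subgroup.le_normalizer).toEquiv,
      Nat.card_zpowers, hx]
    exact hP.coprime_iff_not_dvd.2 hrel)
  have hKk : (Nat.card K : k) ≠ 0 := by
    rw [Ne, CharP.cast_eq_zero_iff k p, ← hK.symm.index_eq_card]
    exact hrel
  let τ : Representation k K V := ρ.comp (N₀.subtype.comp K.subtype)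
  have hexa : ∀ g : K, ∃ a : ℕ, ((g : N₀) : G) * x * ((g : N₀) : G)⁻¹ = x ^ a := by
    intro g
    have h1 : ((g : N₀) : G) * x * ((g : N₀) : G)⁻¹ ∈ P :=
      (Subgroup.mem_normalizer_iff.1 (g : N₀).2 x).1 (Subgroup.mem_zpowers x)
    rw [hPdef, mem_zpowers_iff_mem_range_orderOf, Finset.mem_image] at h1
    obtain ⟨a, -, ha⟩ := h1
    exact ⟨a, ha.symm⟩
  choose a ha using hexa
  have hτY : ∀ g : K, τ g * Y = (a g : k) • (Y * τ g) := by
    intro g
    have hσ : conjAlg ρ ((g : N₀) : G) Y = (a g : k) • Y := by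
      set σ := conjAlg ρ ((g : N₀) : G) with hσdef
      have hσx : σ (ρ x) = ρ x ^ a g := by
        rw [hσdef, conjAlg_apply, ← map_mul, ← map_mul, ha, map_pow]
      have hσC : σ Y ∈ C := by
        have h1 : C.map σ ≤ C := by
          rw [hCdef, AlgHom.map_adjoin, Set.image_singleton, Algebra.adjoin_le_iff,
            Set.singleton_subset_iff, hNdef, map_sub, map_one, hσx]
          refine Subalgebra.sub_mem _ (Subalgebra.pow_mem _ ?_ _) (Subalgebra.one_mem _)
          have h2 := Subalgebra.add_mem (Algebra.adjoin k {N}) (Algebra.self_mem_adjoin_singleton k N)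
            (Subalgebra.one_mem _)
          rwa [hNdef, sub_add_cancel] at h2
        exact h1 ⟨Y, hYmem, rfl⟩
      refine eq_of_expT_eq (k := k) (p := p)
        (Commute.smul_right (congrArg Subtype.val (mul_comm (⟨σ Y, hσC⟩ : C) Y₀)) _)
        (m := n) (by rw [← map_pow, hYn, map_zero]) (by rw [smul_pow, hYn, smul_zero])
        (by omega) ?_
      rw [← map_expT, hexp, hσx, expT_nsmul hYn (by omega), hexp]
    rw [conjAlg_apply] at hσ
    show ρ _ * Y = _
    rw [← smul_mul_assoc, ← hσ, mul_assoc]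
    show _ = ρ _ * Y * (ρ ((g : N₀) : G)⁻¹ * ρ ((g : N₀) : G))
    rw [← map_mul, inv_mul_cancel, map_one, mul_one]
    rfl
  obtain ⟨lam, hlam, hlamK⟩ := exists_topSection hKk τ (fun g => (a g : k)) hm2 hYm hne hτY
  set L := tripleSpan Y lam m with hLdef
  set E := Y * topProj Y lam m with hEdef
  have hA : ∀ Z, ρ.linHom ρ x⁻¹ Z = ρ x⁻¹ * (Z * ρ x) := fun Z => by
    rw [linHom_eq, inv_inv, mul_assoc]
  have hinv : ρ x⁻¹ * ρ x = 1 := by rw [← map_mul, inv_mul_cancel, map_one]
  have hacts : ρ.linHom ρ x⁻¹ E = E ∧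
      ρ.linHom ρ x⁻¹ (topH Y lam m) = topH Y lam m - (2 : k) • E ∧
      ρ.linHom ρ x⁻¹ (topF Y lam m) = topF Y lam m + topH Y lam m - E := by
    obtain ⟨h1, h2, h3⟩ := triple_mul_expT (p := p) hlam (by omega)
    rw [hexp] at h1 h2 h3
    refine ⟨?_, ?_, ?_⟩
    · rw [hA, h1, ← mul_assoc, hinv, one_mul]
    · rw [hA, h2, ← mul_assoc, hinv, one_mul]
    · rw [hA, h3, ← mul_assoc, hinv, one_mul]
  have hEmem : E ∈ L := Submodule.subset_span (by simp [hEdef])
  have hHmem : topH Y lam m ∈ L := Submodule.subset_span (by simp)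
  have hFmem : topF Y lam m ∈ L := Submodule.subset_span (by simp)
  let S : Submonoid G :=
    { carrier := {g | ∀ Z ∈ L, ρ.linHom ρ g Z ∈ L}
      one_mem' := fun Z hZ => by rwa [map_one]
      mul_mem' := fun {g g'} hg hg' Z hZ => by
        rw [map_mul, Module.End.mul_apply]; exact hg _ (hg' Z hZ) }
  have hSx' : x⁻¹ ∈ S := by
    intro Z hZ
    induction hZ using Submodule.span_induction with
    | mem z hz =>
      rcases hz with rfl | rfl | rfl
      · rw [← hEdef, hacts.1]; exact hEmem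
      · rw [hacts.2.1]; exact L.sub_mem hHmem (L.smul_mem _ hEmem)
      · rw [hacts.2.2]; exact L.sub_mem (L.add_mem hFmem hHmem) hEmem
    | zero => rw [map_zero]; exact zero_mem _
    | add u v _ _ hu hv => rw [map_add]; exact add_mem hu hv
    | smul r u _ hu => rw [map_smul]; exact L.smul_mem _ hu
  have hSinv : ∀ g ∈ S, g⁻¹ ∈ S := fun g hg => by
    rw [inv_eq_of_mul_eq_one_right (show g * g ^ (orderOf g - 1) = 1 by
      rw [← pow_succ', Nat.sub_add_cancel (orderOf_pos g), pow_orderOf_eq_one])]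
    exact S.pow_mem hg _
  let S' : Subgroup G := { S with inv_mem' := fun {g} hg => hSinv g hg }
  have hN₀S : N₀ ≤ S' := by
    intro g hg
    obtain ⟨⟨u, v⟩, huv⟩ := hK.2 (⟨g, hg⟩ : N₀)
    have hval : ((u : N₀) : G) * ((v : N₀) : G) = g := congrArg Subtype.val huv
    rw [← hval]
    refine S'.mul_mem (?_ : ((u : N₀) : G) ∈ S') (fun Z hZ => ?_)
    · have hu : ((u : N₀) : G) ∈ Subgroup.zpowers x := u.2
      have hxS : x ∈ S' := by
        have := S'.inv_mem (show x⁻¹ ∈ S' from hSx')
        rwa [inv_inv] at this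
      exact (Subgroup.zpowers_le.2 hxS) hu
    · have hc : (a v : k) ≠ 0 := by
        intro h0
        have h1 := hτY v
        rw [h0, zero_smul] at h1
        have h2 : τ v⁻¹ * (τ v * Y) = 0 := by rw [h1, mul_zero]
        rw [← mul_assoc, ← map_mul, inv_mul_cancel, map_one, one_mul] at h2
        exact hne (by rw [h2, zero_pow (by omega)])
      refine sigma_mem_tripleSpan (σ := conjAlg ρ ((v : N₀) : G)) hc ?_ ?_ hZ
      · rw [conjAlg_apply]
        have h1 := hτY v
        show ρ _ * Y * _ = _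
        rw [show ρ ((v : N₀) : G) * Y = (a v : k) • (Y * τ v) from h1, smul_mul_assoc, mul_assoc]
        show _ • (Y * (ρ ((v : N₀) : G) * ρ ((v : N₀) : G)⁻¹)) = _
        rw [← map_mul, mul_inv_cancel, map_one, mul_one]
      · rw [conjAlg_apply]
        exact hlamK v
  obtain ⟨π, hπmem, hπorth⟩ := exists_orthProj (p := p) hlam hp3 (by omega) (by omega)
  have huniq : ∀ Z, ∀ Z' ∈ L, (∀ U ∈ L, LinearMap.trace k V (U * (Z - Z')) = 0) → π Z = Z' := by
    intro Z Z' hZ' h
    refine sub_eq_zero.1 (tripleSpan_inf_orth (p := p) hlam hp3 (by omega) (by omega)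
      (L.sub_mem (hπmem Z) hZ') fun U hU => ?_)
    have h1 := h U hU
    have h2 := hπorth Z U hU
    rw [mul_sub, map_sub] at h1 h2 ⊢
    linear_combination h1 - h2
  have hπfix : ∀ Z ∈ L, π Z = Z := fun Z hZ => huniq Z Z hZ fun U _ => by simp
  have hπN : ∀ g ∈ N₀, ∀ Z, π (ρ.linHom ρ g Z) = ρ.linHom ρ g (π Z) := fun g hg Z => by
    refine huniq _ _ (hN₀S hg _ (hπmem Z)) fun U hU => ?_
    have hU' := hN₀S (N₀.inv_mem hg) U hU
    rw [← map_sub, ← trace_linHom ρ g⁻¹ U, ← Module.End.mul_apply, ← map_mul,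
      inv_mul_cancel, map_one, Module.End.one_apply]
    exact hπorth Z _ hU'
  have hπsymm : ∀ A B, LinearMap.trace k V (π A * B) = LinearMap.trace k V (A * π B) := by
    intro A B
    have h1 := hπorth B _ (hπmem A)
    have h2 := hπorth A _ (hπmem B)
    rw [mul_sub, map_sub, sub_eq_zero] at h1 h2
    rw [h1, LinearMap.trace_mul_comm k A (π B), h2, LinearMap.trace_mul_comm k (π A)]
  -- the endomorphism
  let Ψ : G → Module.End k (Module.End k V) := fun g => ρ.linHom ρ g * π * ρ.linHom ρ g⁻¹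
  have hΨ : ∀ g, ∀ u ∈ N₀, Ψ (g * u) = Ψ g := by
    intro g u hu
    refine LinearMap.ext fun Z => ?_
    simp only [Ψ, Module.End.mul_apply, mul_inv_rev, map_mul]
    rw [hπN u⁻¹ (N₀.inv_mem hu), ← Module.End.mul_apply (ρ.linHom ρ u), ← map_mul, mul_inv_cancel,
      map_one, Module.End.one_apply]
  haveI : Fintype (G ⧸ P) := Fintype.ofFinite _
  have hPN : P ≤ N₀ := Subgroup.le_normalizer
  have hΨq : ∀ g : G, Ψ (g : G ⧸ P).out = Ψ g := fun g => by
    obtain ⟨u, hu⟩ := QuotientGroup.mk_out_eq_mul P g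
    rw [hu, hΨ g _ (hPN u.2)]
  let F : Module.End k (Module.End k V) := ∑ q : G ⧸ P, Ψ q.out
  have hFcomm : ∀ g Z, F (ρ.linHom ρ g Z) = ρ.linHom ρ g (F Z) := by
    intro g Z
    simp only [F, LinearMap.sum_apply, map_sum]
    refine Fintype.sum_equiv (MulAction.toPerm g⁻¹) _ _ fun q => ?_
    induction q using QuotientGroup.induction_on with | _ h => ?_
    simp only [MulAction.toPerm_apply, MulAction.Quotient.smul_mk, smul_eq_mul, hΨq, Ψ,
      mul_inv_rev, inv_inv, map_mul, Module.End.mul_apply]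
    rw [← Module.End.mul_apply (ρ.linHom ρ g), ← map_mul, mul_inv_cancel, map_one,
      Module.End.one_apply]
  have hA1 : (ρ.linHom ρ x - 1) ^ (p - 1) = 0 :=
    linHom_sub_one_pow (sub_one_pow_finrank hxp) (sub_one_pow_finrank hxp') (by omega)
  set A := ρ.linHom ρ x with hAdef
  -- value on fixed vectors
  set c : k := ((univ.filter fun q : G ⧸ P => q.out ∈ N₀).card : k) with hcdef
  have hc : c ≠ 0 := by
    rw [hcdef, Ne, CharP.cast_eq_zero_iff k p]
    convert hrel using 2
    rw [Subgroup.relIndex, Subgroup.index, ← Nat.subtype_card _ (fun q => Iff.rfl),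
      ]
    refine (Nat.card_congr (Equiv.ofBijective (fun q : N₀ ⧸ P.subgroupOf N₀ =>
      (⟨Quotient.map' (fun g : N₀ => (g : G)) (fun g g' h => ?_) q, ?_⟩ :
        {q : G ⧸ P // q ∈ univ.filter fun q : G ⧸ P => q.out ∈ N₀})) ⟨?_, ?_⟩)).symm
    · rw [QuotientGroup.leftRel_apply] at h ⊢
      exact h
    · induction q using QuotientGroup.induction_on with | _ g => ?_
      refine mem_filter.2 ⟨mem_univ _, ?_⟩
      obtain ⟨u, hu⟩ := QuotientGroup.mk_out_eq_mul P (g : G)
      show ((g : G) : G ⧸ P).out ∈ N₀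
      rw [hu]
      exact N₀.mul_mem g.2 (hPN u.2)
    · intro q q' h
      induction q using QuotientGroup.induction_on with | _ g => ?_
      induction q' using QuotientGroup.induction_on with | _ g' => ?_
      have h' : ((g : G) : G ⧸ P) = ((g' : G) : G ⧸ P) := congrArg Subtype.val h
      rw [QuotientGroup.eq] at h' ⊢
      exact h'
    · rintro ⟨q, hq⟩
      refine ⟨((⟨q.out, (mem_filter.1 hq).2⟩ : N₀) : N₀ ⧸ P.subgroupOf N₀), Subtype.ext ?_⟩
      exact QuotientGroup.out_eq' q
  have hFfix : ∀ Z, A Z = Z → F Z = c • π Z := by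
    intro Z hZ
    have hpow : ∀ u ∈ P, ρ.linHom ρ u Z = Z := by
      intro u hu
      rw [hPdef, mem_zpowers_iff_mem_range_orderOf, Finset.mem_image] at hu
      obtain ⟨i, -, rfl⟩ := hu
      induction i with
      | zero => rw [pow_zero, map_one, Module.End.one_apply]
      | succ i ih => rw [pow_succ, map_mul, Module.End.mul_apply, ← hAdef, hZ, ih]
    simp only [F, LinearMap.sum_apply]
    rw [← Finset.sum_filter_add_sum_filter_not univ (fun q : G ⧸ P => q.out ∈ N₀),
      Finset.sum_congr rfl (g := fun _ => π Z) fun q hq => by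
        rw [show Ψ q.out = Ψ 1 by
          conv_lhs => rw [← one_mul q.out]
          exact hΨ 1 _ (mem_filter.1 hq).2]
        simp [Ψ],
      Finset.sum_const, ← Nat.cast_smul_eq_nsmul k, ← hcdef, add_eq_left]
    set T := univ.filter fun q : G ⧸ P => q.out ∉ N₀ with hT
    have hTmem : ∀ g : G, (g : G ⧸ P) ∈ T ↔ g ∉ N₀ := fun g => by
      obtain ⟨u, hu⟩ := QuotientGroup.mk_out_eq_mul P g
      rw [hT, mem_filter, hu, and_iff_right (mem_univ _), not_iff_not]
      exact Subgroup.mul_mem_cancel_right _ (hPN u.2)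
    rw [← Finset.sum_fiberwise_of_maps_to (g := fun q : G ⧸ P =>
      (Quotient.mk (MulAction.orbitRel P (G ⧸ P)) q)) (t := T.image fun q : G ⧸ P =>
      (Quotient.mk (MulAction.orbitRel P (G ⧸ P)) q)) (fun q hq => mem_image_of_mem _ hq)]
    refine Finset.sum_eq_zero fun o ho => ?_
    obtain ⟨q₀, hq₀, rfl⟩ := mem_image.1 ho
    induction q₀ using QuotientGroup.induction_on with | _ g₀ => ?_
    rw [hTmem] at hq₀
    haveI : Fintype P := Fintype.ofFinite _
    have hfree : Function.Injective fun u : P => u • (g₀ : G ⧸ P) := by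
      intro u v huv
      have h : (u⁻¹ * v) • (g₀ : G ⧸ P) = (g₀ : G ⧸ P) := by
        rw [mul_smul]; exact inv_smul_eq_iff.2 huv.symm
      by_contra hne'
      apply hq₀
      have hw : ((u⁻¹ * v : P) : G) ≠ 1 := fun h1 => hne' (inv_mul_eq_one.1 (Subtype.ext h1))
      have hgen : Subgroup.zpowers ((u⁻¹ * v : P) : G) = P := by
        refine Subgroup.eq_of_le_of_card_ge (Subgroup.zpowers_le.2 (u⁻¹ * v).2) ?_
        rw [Nat.card_zpowers, Nat.card_zpowers, hx]
        have hd : orderOf ((u⁻¹ * v : P) : G) ∣ p := by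
          rw [← hx]; exact orderOf_dvd_of_mem_zpowers (u⁻¹ * v).2
        exact ((hP.eq_one_or_self_of_dvd _ hd).resolve_left fun h1 =>
          hw (orderOf_eq_one_iff.1 h1)).ge
      change ((((u⁻¹ * v : P) : G) * g₀ : G) : G ⧸ P) = (g₀ : G ⧸ P) at h
      rw [QuotientGroup.eq] at h
      have h' : g₀⁻¹ * ((u⁻¹ * v : P) : G) * g₀ ∈ P := by
        have := P.inv_mem h
        simpa [mul_assoc] using this
      have hmap : ∀ y ∈ P, g₀⁻¹ * y * g₀ ∈ P := fun y hy => by
        rw [← hgen] at hy
        obtain ⟨i, rfl⟩ := hy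
        have h2 := P.zpow_mem h' i
        rwa [show g₀⁻¹ * ((u⁻¹ * v : P) : G) * g₀ = g₀⁻¹ * ((u⁻¹ * v : P) : G) * g₀⁻¹⁻¹ by
          rw [inv_inv], conj_zpow, inv_inv] at h2
      have : g₀⁻¹ ∈ N₀ := Subgroup.mem_normalizer_iff.2 fun y => ⟨fun hy => by
          simpa using hmap y hy, fun hy => by
          have hsub : P.map (MulAut.conj g₀⁻¹).toMonoidHom = P :=
            Subgroup.eq_of_le_of_card_ge (fun z hz => by
              obtain ⟨y', hy', rfl⟩ := hz
              simpa using hmap y' hy')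
              (by rw [Subgroup.card_map_of_injective (MulEquiv.injective _)])
          obtain ⟨y', hy', he⟩ := (hsub.symm ▸ hy : g₀⁻¹ * y * g₀⁻¹⁻¹ ∈
            P.map (MulAut.conj g₀⁻¹).toMonoidHom)
          have : y' = y := (MulAut.conj g₀⁻¹).injective he
          exact this ▸ hy'⟩
      simpa using N₀.inv_mem this
    have hfib : T.filter (fun q : G ⧸ P => (Quotient.mk (MulAction.orbitRel P (G ⧸ P)) q) =
        Quotient.mk (MulAction.orbitRel P (G ⧸ P)) (g₀ : G ⧸ P)) =
        univ.image fun u : P => u • (g₀ : G ⧸ P) := by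
      ext q
      simp only [mem_filter, mem_image, mem_univ, true_and]
      constructor
      · rintro ⟨-, hq⟩
        exact MulAction.orbitRel_apply.1 (Quotient.exact hq)
      · rintro ⟨u, rfl⟩
        refine ⟨?_, Quotient.sound (MulAction.orbitRel_apply.2 ⟨u, rfl⟩)⟩
        change (((u : G) * g₀ : G) : G ⧸ P) ∈ T
        rw [hTmem, Subgroup.mul_mem_cancel_left _ (hPN u.2)]
        exact hq₀
    rw [hfib, Finset.sum_image hfree.injOn]
    have hterm : ∀ u : P, Ψ (u • (g₀ : G ⧸ P)).out Z = ρ.linHom ρ (u : G) (Ψ g₀ Z) := by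
      intro u
      rw [show u • (g₀ : G ⧸ P) = (((u : G) * g₀ : G) : G ⧸ P) from rfl, hΨq]
      simp only [Ψ, mul_inv_rev, map_mul, Module.End.mul_apply]
      rw [hpow _ (P.inv_mem u.2)]
    rw [Finset.sum_congr rfl fun u _ => hterm u]
    have hrange : ∑ u : P, ρ.linHom ρ (u : G) (Ψ g₀ Z) =
        ∑ i ∈ range p, (A ^ i) (Ψ g₀ Z) := by
      refine (Finset.sum_bij (fun i _ => (⟨x ^ i, Subgroup.npow_mem_zpowers x i⟩ : P))
        (fun i _ => mem_univ _) (fun i hi j hj h => ?_) (fun u _ => ?_)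
        (fun i _ => by rw [hAdef, ← map_pow])).symm
      · have := congrArg Subtype.val h
        exact pow_injOn_Iio_orderOf (by simpa [hx] using hi) (by simpa [hx] using hj) this
      · have hu := u.2
        simp only [hPdef, mem_zpowers_iff_mem_range_orderOf, Finset.mem_image] at hu
        obtain ⟨i, hi, he⟩ := hu
        exact ⟨i, hx ▸ hi, Subtype.ext he⟩
    rw [hrange, ← LinearMap.sum_apply, sum_pow_eq_sub_one_pow (k := k), hA1, LinearMap.zero_apply]
  have hFsymm : ∀ U Z, LinearMap.trace k V (F U * Z) = LinearMap.trace k V (U * F Z) := by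
    intro U Z
    simp only [F, LinearMap.sum_apply, Finset.sum_mul, Finset.mul_sum, map_sum]
    refine Finset.sum_congr rfl fun q _ => ?_
    simp only [Ψ, Module.End.mul_apply]
    rw [← trace_linHom ρ q.out⁻¹, ← Module.End.mul_apply, ← map_mul, inv_mul_cancel, map_one,
      Module.End.one_apply, hπsymm, ← trace_linHom ρ q.out, ← Module.End.mul_apply, ← map_mul,
      mul_inv_cancel, map_one, Module.End.one_apply]
  obtain ⟨e, he⟩ := Filter.eventually_atTop.1 (LinearMap.eventually_isCompl_ker_pow_range_pow F)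
  set d := e + 1 with hd
  have hcompl := he d (by omega)
  set W := LinearMap.range (F ^ d) with hW
  have hpowcomm : ∀ (j : ℕ) g Z, (F ^ j) (ρ.linHom ρ g Z) = ρ.linHom ρ g ((F ^ j) Z) := by
    intro j g Z
    induction j with
    | zero => simp
    | succ j ih => rw [pow_succ', Module.End.mul_apply, ih, hFcomm, Module.End.mul_apply]
  have hWinv : ∀ g, ∀ Z ∈ W, ρ.linHom ρ g Z ∈ W := by
    rintro g _ ⟨Z, rfl⟩
    exact ⟨_, hpowcomm d g Z⟩
  have hkerW : ∀ Z ∈ W, F Z = 0 → Z = 0 := fun Z hZ h => by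
    refine Submodule.disjoint_def.1 hcompl.disjoint Z ?_ hZ
    rw [LinearMap.mem_ker, hd, pow_succ, Module.End.mul_apply, h, map_zero]
  have hWπ : ∀ Z ∈ W, π Z = 0 → Z = 0 := by
    by_contra hall
    push Not at hall
    obtain ⟨Z, hZW, hZπ, hZ0⟩ := hall
    obtain ⟨w, hw, hw0, hwA⟩ := exists_fixed_ne_zero hA1 (S := W ⊓ LinearMap.ker π) (fun v hv =>
      ⟨hWinv x v hv.1, by
        rw [SetLike.mem_coe, LinearMap.mem_ker, hAdef, hπN x (hPN (Subgroup.mem_zpowers x)),
          show π v = 0 from hv.2, map_zero]⟩)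
      (fun hbot => hZ0 ((Submodule.eq_bot_iff _).1 hbot Z ⟨hZW, hZπ⟩))
    exact hw0 (hkerW w hw.1 (by rw [hFfix w hwA, show π w = 0 from hw.2, smul_zero]))
  have hLker : ∀ Z ∈ L, (F ^ d) Z = 0 → Z = 0 := by
    by_contra hall
    push Not at hall
    obtain ⟨Z, hZL, hZF, hZ0⟩ := hall
    obtain ⟨w, hw, hw0, hwA⟩ := exists_fixed_ne_zero hA1 (S := L ⊓ LinearMap.ker (F ^ d))
      (fun v hv => ⟨hN₀S (hPN (Subgroup.mem_zpowers x)) v hv.1, by
        rw [SetLike.mem_coe, LinearMap.mem_ker, hAdef, hpowcomm, show (F ^ d) v = 0 from hv.2,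
          map_zero]⟩)
      (fun hbot => hZ0 ((Submodule.eq_bot_iff _).1 hbot Z ⟨hZL, hZF⟩))
    have hpw : ∀ j : ℕ, (F ^ j) w = c ^ j • w := fun j => by
      induction j with
      | zero => simp
      | succ j ih =>
        rw [pow_succ', Module.End.mul_apply, ih, map_smul, hFfix w hwA, hπfix w hw.1, smul_smul,
          ← pow_succ]
    have h0 := hpw d
    rw [show (F ^ d) w = 0 from hw.2] at h0
    exact hw0 ((smul_eq_zero.1 h0.symm).resolve_left (pow_ne_zero _ hc))
  have hL3 : finrank k L = 3 := by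
    have h1 := finrank_span_eq_card (linearIndependent_triple (p := p) hlam hp3 (by omega) (by omega))
    rw [Fintype.card_fin] at h1
    refine Eq.trans ?_ h1
    rw [hLdef, tripleSpan]
    congr 2 <;> simp [Matrix.range_cons, Matrix.range_empty, Set.pair_comm, Set.insert_comm]
  have hle : finrank k W ≤ finrank k L :=
    LinearMap.finrank_le_finrank_of_injective (f := LinearMap.codRestrict L (π.domRestrict W)
      fun Z => hπmem _) (by
        rw [← LinearMap.ker_eq_bot, LinearMap.ker_eq_bot']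
        exact fun Z hZ => Subtype.ext (hWπ _ Z.2 (congrArg Subtype.val hZ)))
  have hge : finrank k L ≤ finrank k W :=
    LinearMap.finrank_le_finrank_of_injective (f := LinearMap.codRestrict W ((F ^ d).domRestrict L)
      fun Z => LinearMap.mem_range_self _ _) (by
        rw [← LinearMap.ker_eq_bot, LinearMap.ker_eq_bot']
        exact fun Z hZ => Subtype.ext (hLker _ Z.2 (congrArg Subtype.val hZ)))
  refine ⟨W, by omega, hWinv, fun Z hZ horth => ?_, ?_⟩
  · refine eq_zero_of_trace_mul fun U => ?_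
    obtain ⟨U₁, hU₁, U₂, hU₂, rfl⟩ : ∃ U₁ ∈ LinearMap.ker (F ^ d), ∃ U₂ ∈ W, U₁ + U₂ = U :=
      Submodule.mem_sup.1 (hcompl.sup_eq_top ▸ Submodule.mem_top)
    obtain ⟨Z₀, rfl⟩ := hZ
    have hFd : ∀ (j : ℕ) U' Z', LinearMap.trace k V ((F ^ j) U' * Z') =
        LinearMap.trace k V (U' * (F ^ j) Z') := fun j => by
      induction j with
      | zero => simp
      | succ j ih =>
        intro U' Z'
        rw [pow_succ', Module.End.mul_apply, hFsymm, ih, ← Module.End.mul_apply, ← pow_succ]
        rw [pow_succ']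
    rw [add_mul, map_add, horth U₂ hU₂, add_zero, ← hFd, LinearMap.mem_ker.1 hU₁, zero_mul,
      map_zero]
  · have hsurj : LinearMap.range (π.domRestrict W) = L := by
      refine Submodule.eq_of_le_of_finrank_eq (by rintro _ ⟨Z, rfl⟩; exact hπmem _) ?_
      rw [LinearMap.finrank_range_of_inj]
      · omega
      · rw [← LinearMap.ker_eq_bot, LinearMap.ker_eq_bot']
        exact fun Z hZ => Subtype.ext (hWπ _ Z.2 hZ)
    obtain ⟨⟨Z, hZ⟩, hZf⟩ : topF Y lam m ∈ LinearMap.range (π.domRestrict W) := hsurj ▸ hFmem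
    refine ⟨Z, hZ, fun h0 => ?_⟩
    have hZf' : π Z = topF Y lam m := hZf
    have hπx : ∀ U, π ((ρ.linHom ρ x⁻¹ - 1) U) = (ρ.linHom ρ x⁻¹ - 1) (π U) := fun U => by
      rw [LinearMap.sub_apply, LinearMap.sub_apply, map_sub,
        hπN _ (N₀.inv_mem (hPN (Subgroup.mem_zpowers x))), Module.End.one_apply,
        Module.End.one_apply]
    have h1 := congrArg π h0
    rw [pow_two, Module.End.mul_apply, hπx, hπx, hZf', map_zero, LinearMap.sub_apply,
      LinearMap.sub_apply, Module.End.one_apply, Module.End.one_apply, hacts.2.2, map_sub, map_sub,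
      map_add, hacts.1, hacts.2.1, hacts.2.2] at h1
    have h2 : (2 : k) ≠ 0 := by
      have := factorial_ne_zero_of_lt (k := k) (p := p) (i := 2) (by omega)
      simpa using this
    have h3 : (2 : k) • E = 0 := by
      rw [← neg_eq_zero, ← h1]; abel
    have hE0 : E ≠ 0 := (linearIndependent_triple (p := p) hlam hp3 (by omega) (by omega)).ne_zero 0
    exact hE0 ((smul_eq_zero.1 h3).resolve_left h2)

end CfsgLib.SmallDegree
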