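import Cfsg.Agent.Lib.SmallDegree.Main
import Cfsg.Agent.Lib.Chars.Basic

/-!
# Faithful complex representations: reduction and conjugate powers
-/

set_option autoImplicit false
set_option linter.unusedSectionVars false
set_option linter.style.haveILetI false

namespace CfsgLib.SmallDegree

/-- Faithful reduction when there is no normal subgroup of order `p`. -/
theorem exists_faithful_reduction {G : Type*} [Group G] [Finite G] {p : ℕ} [Fact p.Prime] {n : ℕ}
    (ρ : Representation ℂ G (Fin n → ℂ)) (hρ : Function.Injective ρ)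
    (hsq : ¬ p ^ 2 ∣ Nat.card G) (hnn : ∀ H : Subgroup G, H.Normal → Nat.card H ≠ p) :
    ∃ (k : Type) (_ : Field k) (_ : IsAlgClosed k) (_ : CharP k p) (r : ℕ)
      (σ : Representation k G (Fin r → k)), r ≤ n ∧ Function.Injective σ := by
  obtain ⟨k, i1, i2, i3, r, σ, hr, hker⟩ := exists_reduction (p := p) ρ hρ
  have hσ : Function.Injective σ := by
    let K := σ.asGroupHom.ker
    have hKmem : ∀ g, g ∈ K ↔ σ g = 1 := fun g => by
      rw [MonoidHom.mem_ker, Units.ext_iff, Representation.asGroupHom_apply]; rfl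
    have hKp : IsPGroup p K := fun g => by
      obtain ⟨i, hi⟩ := hker g ((hKmem _).1 g.2)
      exact ⟨i, Subtype.ext hi⟩
    obtain ⟨i, hi⟩ := IsPGroup.iff_card.1 hKp
    have hi0 : i = 0 := by
      rcases i with _ | _ | i
      · rfl
      · exact absurd (by rw [hi, zero_add, pow_one]) (hnn K (MonoidHom.normal_ker _))
      · exact absurd ((pow_dvd_pow p (show 2 ≤ i + 1 + 1 by omega)).trans
          (hi ▸ Subgroup.card_subgroup_dvd_card K)) hsq
    rw [hi0, pow_zero] at hi
    intro g g' h
    have h1 : g⁻¹ * g' ∈ K :=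
      (hKmem _).2 (by rw [map_mul, ← h, ← map_mul, inv_mul_cancel, map_one])
    rw [Subgroup.eq_bot_of_card_eq K hi, Subgroup.mem_bot] at h1
    exact inv_mul_eq_one.1 h1
  exact ⟨k, i1, i2, i3, r, σ, hr, hσ⟩

/-- In a faithful complex representation of degree `n` at most `n` powers of `x` are conjugate to
`x`. -/
theorem card_conj_powers_le {G : Type*} [Group G] [Finite G] {p : ℕ} [Fact p.Prime] {n : ℕ}
    (ρ : Representation ℂ G (Fin n → ℂ)) (hρ : Function.Injective ρ) {x : G} (hx : orderOf x = p)
    {A : Finset (ZMod p)} (hAe : ∀ a ∈ A, ∃ g : G, g * x * g⁻¹ = x ^ a.val) : A.card ≤ n := by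
  classical
  have hp : p.Prime := Fact.out
  have hρx : ρ x ≠ 1 := fun h => hp.ne_one (by
    rw [← hx, hρ (h.trans (map_one ρ).symm), orderOf_one])
  obtain ⟨b, μ, hμ, -, hb, -, -, -⟩ := CfsgLib.Chars.exists_eigenbasis_rep ρ x
  obtain ⟨i₀, hi₀⟩ : ∃ i, μ i ≠ 1 := by
    by_contra hall
    push Not at hall
    exact hρx (b.ext fun i => by rw [hb, hall i, one_smul, Module.End.one_apply])
  have hμp : ∀ i, μ i ^ p = 1 := fun i => hx ▸ hμ i
  have hprim : IsPrimitiveRoot (μ i₀) p :=
    IsPrimitiveRoot.iff_orderOf.2 (orderOf_eq_prime (hμp i₀) hi₀)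
  have hmap : ∀ a ∈ A, ∃ i, μ i ^ a.val = μ i₀ := by
    intro a ha
    obtain ⟨g, hg⟩ := hAe a ha
    by_contra hno
    push Not at hno
    set w := ρ g (b i₀) with hw
    have hxa : ρ (x ^ a.val) w = μ i₀ • w := by
      rw [← hg, hw, ← Module.End.mul_apply, ← map_mul, inv_mul_cancel_right, map_mul,
        Module.End.mul_apply, hb, map_smul]
    have hpow : ∀ (j : ℕ) i, ρ (x ^ j) (b i) = μ i ^ j • b i := fun j i => by
      induction j with
      | zero => simp
      | succ j ih => rw [pow_succ', map_mul, Module.End.mul_apply, ih, map_smul, hb, smul_smul,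
          ← pow_succ]
    have h1 : ∀ i, b.repr w i * μ i ^ a.val = μ i₀ * b.repr w i := by
      intro i
      have h2 : b.repr (ρ (x ^ a.val) w) i = b.repr w i * μ i ^ a.val := by
        conv_lhs => rw [← b.sum_repr w, map_sum, map_sum, Finset.sum_apply']
        rw [Finset.sum_eq_single i (fun j _ hji => by simp only [map_smul, hpow, Finsupp.smul_apply, b.repr_self, Finsupp.single_apply, hji, if_false, smul_zero])
          (fun h => absurd (Finset.mem_univ _) h)]
        simp only [map_smul, hpow, Finsupp.smul_apply, b.repr_self, Finsupp.single_eq_same, smul_eq_mul, mul_one]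
      rw [← h2, hxa, map_smul, Finsupp.smul_apply, smul_eq_mul]
    have hw0 : w = 0 := b.repr.injective (Finsupp.ext fun i => by
      rw [map_zero, Finsupp.zero_apply]
      by_contra hne
      exact hno i (mul_left_cancel₀ hne (by rw [h1 i, mul_comm])))
    have h3 : b i₀ = 0 := by
      rw [← Module.End.one_apply (R := ℂ) (b i₀), ← map_one ρ, ← inv_mul_cancel g, map_mul,
        Module.End.mul_apply, ← hw, hw0, map_zero]
    exact b.ne_zero i₀ h3
  choose f hf using hmap
  have hinj : Function.Injective fun a : A => f a.1 a.2 := by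
    intro a a' h
    refine Subtype.ext ?_
    have h1 := hf a.1 a.2
    have h2 := hf a'.1 a'.2
    simp only at h
    rw [← h] at h2
    have hne : μ (f a.1 a.2) ≠ 1 := fun h0 => hi₀ (by rw [← h1, h0, one_pow])
    have hprim' : IsPrimitiveRoot (μ (f a.1 a.2)) p :=
      IsPrimitiveRoot.iff_orderOf.2 (orderOf_eq_prime (hμp _) hne)
    refine ZMod.val_injective p ?_
    exact hprim'.pow_inj (ZMod.val_lt _) (ZMod.val_lt _) (h1.trans h2.symm)
  have hAn : A.card ≤ n := by
    have := Fintype.card_le_of_injective _ hinj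
    simpa [Module.finrank_fin_fun] using this
  exact hAn

end CfsgLib.SmallDegree
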