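import Mathlib

/-!
# Truncated exponential of a nilpotent element in characteristic `p`
-/

set_option autoImplicit false
set_option linter.unusedSectionVars false

namespace CfsgLib.SmallDegree

open Finset

variable {k : Type*} [Field k] {p : ℕ} [Fact p.Prime] [CharP k p]
variable {A : Type*} [Ring A] [Algebra k A]

/-- The truncated exponential. -/
noncomputable def expT (p : ℕ) (Y : A) : A := ∑ i ∈ range p, ((i.factorial : k))⁻¹ • Y ^ i

variable (k) in
/-- The truncated exponential, with the field explicit. -/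
noncomputable abbrev expk (p : ℕ) (Y : A) : A := expT (k := k) p Y

theorem factorial_ne_zero_of_lt {i : ℕ} (hi : i < p) : (i.factorial : k) ≠ 0 := by
  rw [Ne, CharP.cast_eq_zero_iff k p, (Fact.out : p.Prime).dvd_factorial]
  omega

theorem map_expT {B : Type*} [Ring B] [Algebra k B] (f : A →ₐ[k] B) (Y : A) :
    f (expk k p Y) = expk k p (f Y) := by
  simp [expk, expT, map_sum, map_smul, map_pow]

theorem expT_zero : expk k p (0 : A) = 1 := by
  rw [expk, expT, Finset.sum_eq_single 0 (fun i _ hi => by rw [zero_pow hi, smul_zero])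
    (fun h => absurd (mem_range.2 (Fact.out : p.Prime).pos) h)]
  simp

theorem expT_mul {Y Z : A} (hc : Commute Y Z) {m l : ℕ} (hY : Y ^ m = 0) (hZ : Z ^ l = 0)
    (hml : m + l ≤ p + 1) : expk k p Y * expk k p Z = expk k p (Y + Z) := by
  classical
  have hbin : ∀ s ∈ range p, ((s.factorial : k))⁻¹ • (Y + Z) ^ s =
      ∑ ij ∈ antidiagonal s, (((ij.1.factorial : k))⁻¹ * ((ij.2.factorial : k))⁻¹) •
        (Y ^ ij.1 * Z ^ ij.2) := by
    intro s hs
    rw [hc.add_pow', Finset.smul_sum]
    refine Finset.sum_congr rfl fun ij hij => ?_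
    rw [← Nat.cast_smul_eq_nsmul k, smul_smul]
    congr 1
    have hsum := HasAntidiagonal.mem_antidiagonal.1 hij
    have hs' := mem_range.1 hs
    have h1 := factorial_ne_zero_of_lt (k := k) hs'
    have h2 := factorial_ne_zero_of_lt (k := k) (p := p) (i := ij.1) (by omega)
    have h3 := factorial_ne_zero_of_lt (k := k) (p := p) (i := ij.2) (by omega)
    have h4 : ((s.choose ij.1 : k)) * ij.1.factorial * ij.2.factorial = s.factorial := by
      have h := Nat.choose_mul_factorial_mul_factorial (n := s) (k := ij.1) (by omega)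
      rw [show s - ij.1 = ij.2 by omega] at h
      rw [← h, Nat.cast_mul, Nat.cast_mul]
    field_simp
    linear_combination h4
  simp only [expk, expT]
  rw [Finset.sum_mul_sum]
  rw [Finset.sum_congr rfl hbin, ← Finset.sum_product', Finset.sum_sigma']
  simp_rw [smul_mul_smul_comm]
  have hz : ∀ a b : ℕ, p ≤ a + b → Y ^ a * Z ^ b = 0 := fun a b h => by
    rcases le_or_gt m a with ha | ha
    · rw [pow_eq_zero_of_le ha hY, zero_mul]
    · rw [pow_eq_zero_of_le (show l ≤ b by omega) hZ, mul_zero]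
  symm
  refine Finset.sum_of_injOn (fun x => x.2) ?_ ?_ (fun x hx hnot => ?_) (fun x _ => rfl)
  · rintro ⟨s, i, j⟩ hx ⟨s', i', j'⟩ hx' heq
    simp only [Finset.mem_coe, mem_sigma, HasAntidiagonal.mem_antidiagonal] at hx hx' heq ⊢
    obtain ⟨rfl, rfl⟩ := Prod.ext_iff.1 heq
    obtain ⟨-, rfl⟩ := hx
    obtain ⟨-, rfl⟩ := hx'
    rfl
  · rintro ⟨s, i, j⟩ hx
    simp only [Finset.mem_coe, mem_sigma, HasAntidiagonal.mem_antidiagonal, mem_product, mem_range] at hx ⊢
    omega
  · simp only [Set.mem_image, Finset.mem_coe, mem_sigma, HasAntidiagonal.mem_antidiagonal, mem_range] at hnot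
    rw [hz _ _ (le_of_not_gt fun h => hnot ⟨⟨x.1 + x.2, x⟩, ⟨h, rfl⟩, rfl⟩), smul_zero]

theorem expT_nsmul {Y : A} {m : ℕ} (hY : Y ^ m = 0) (hm : 2 * m ≤ p + 1) (a : ℕ) :
    expk k p ((a : k) • Y) = expk k p Y ^ a := by
  induction a with
  | zero => rw [Nat.cast_zero, zero_smul, expT_zero, pow_zero]
  | succ a ih =>
    rw [Nat.cast_succ, add_smul, one_smul, pow_succ, ← ih,
      expT_mul (((Commute.refl Y).smul_left _)) (m := m) (l := m)
        (by rw [smul_pow, hY, smul_zero]) hY (by omega)]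

theorem expT_mul_neg {Y : A} {m : ℕ} (hY : Y ^ m = 0) (hm : 2 * m ≤ p + 1) :
    expk k p Y * expk k p (-Y) = 1 := by
  rw [expT_mul ((Commute.refl Y).neg_right) (m := m) (l := m) hY
    (by rw [neg_pow, hY, mul_zero]) (by omega), add_neg_cancel, expT_zero]

/-- `expT Y = 1 + Y + Y² q`. -/
theorem expT_eq_add (hp2 : 2 ≤ p) (Y : A) :
    ∃ q : A, Commute Y q ∧ expk k p Y = 1 + Y + Y * Y * q := by
  classical
  refine ⟨∑ i ∈ range (p - 2), (((i + 2).factorial : k))⁻¹ • Y ^ i,
    Commute.sum_right _ _ _ fun i _ => ((Commute.refl Y).pow_right i).smul_right _, ?_⟩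
  obtain ⟨r, rfl⟩ : ∃ r, p = r + 2 := ⟨p - 2, by omega⟩
  simp only [expk, expT, Nat.add_sub_cancel, Finset.mul_sum]
  rw [Finset.sum_range_succ', Finset.sum_range_succ']
  simp only [Nat.factorial_zero, Nat.factorial_one, Nat.cast_one, inv_one, one_smul, pow_zero,
    pow_one, zero_add, mul_smul_comm]
  rw [Finset.sum_congr rfl (fun i _ => show ((((i + 1 + 1).factorial : k))⁻¹ • Y ^ (i + 1 + 1)) =
    (((i + 2).factorial : k))⁻¹ • (Y * Y * Y ^ i) by rw [pow_succ', pow_succ', mul_assoc])]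
  abel

theorem eq_zero_of_expT_eq_one {D : A} (hnil : IsNilpotent D) (h : expk k p D = 1) : D = 0 := by
  obtain ⟨q, hq, he⟩ := expT_eq_add (k := k) (p := p) (Fact.out : p.Prime).two_le D
  rw [h, add_assoc, left_eq_add] at he
  have h1 : D * (1 + D * q) = 0 := by rw [mul_add, mul_one, ← mul_assoc, ← he]
  exact (IsUnit.mul_left_eq_zero ((hq.isNilpotent_mul_right hnil).isUnit_one_add)).1 h1

theorem eq_of_expT_eq {Y Z : A} (hc : Commute Y Z) {m : ℕ} (hY : Y ^ m = 0) (hZ : Z ^ m = 0)
    (hm : 2 * m ≤ p + 1) (h : expk k p Y = expk k p Z) : Y = Z := by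
  refine sub_eq_zero.1 (eq_zero_of_expT_eq_one (k := k) (p := p)
    (hc.isNilpotent_sub ⟨m, hY⟩ ⟨m, hZ⟩) ?_)
  rw [sub_eq_add_neg, ← expT_mul hc.neg_right (m := m) (l := m) hY
    (by rw [neg_pow, hZ, mul_zero]) (by omega), h, expT_mul_neg hZ hm]

/-- A logarithm in a commutative algebra. -/
theorem exists_log {C : Type*} [CommRing C] [Algebra k C] {N : C} {m : ℕ} (hN : N ^ m = 0)
    (hm : 2 * m ≤ p + 1) : ∃ Y : C, N ∣ Y ∧ expk k p Y = 1 + N := by
  have hnil : ∀ Y : C, N ∣ Y → Y ^ m = 0 := by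
    rintro Y ⟨c, rfl⟩
    rw [mul_pow, hN, zero_mul]
  have step : ∀ j, 1 ≤ j → ∃ Y : C, N ∣ Y ∧ N ^ j ∣ ((1 + N) * expk k p (-Y) - 1) := by
    intro j hj
    induction j, hj using Nat.le_induction with
    | base => exact ⟨0, dvd_zero N, by rw [neg_zero, expT_zero]; simp⟩
    | succ j hj ih =>
      obtain ⟨Y, hY, R, hR⟩ := ih
      have hc : N ∣ N ^ j * R := (dvd_pow_self N (by omega)).mul_right R
      refine ⟨Y + N ^ j * R, dvd_add hY hc, ?_⟩
      obtain ⟨q, -, hq⟩ := expT_eq_add (k := k) (p := p) (Fact.out : p.Prime).two_le (-(N ^ j * R))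
      rw [neg_add, ← expT_mul (Commute.all _ _) (m := m) (l := m) (hnil _ hY.neg_right)
        (hnil _ hc.neg_right) (by omega), hq, ← mul_assoc]
      have hA : (1 + N) * expk k p (-Y) = 1 + N ^ j * R := by linear_combination hR
      rw [hA]
      have h2 : N ^ (j + 1) ∣ (N ^ j * R) * (N ^ j * R) := by
        obtain ⟨c, hc'⟩ := hc
        exact ⟨R * c, by rw [pow_succ]; nth_rw 2 [hc']; ring⟩
      have h3 := h2.mul_right (-1 + q + (N ^ j * R) * q)
      convert h3 using 1
      ring
  rcases Nat.eq_zero_or_pos m with rfl | hm0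
  · rw [pow_zero] at hN
    haveI : Subsingleton C := subsingleton_of_zero_eq_one hN.symm
    exact ⟨0, dvd_zero N, Subsingleton.elim _ _⟩
  obtain ⟨Y, hY, R, hR⟩ := step m hm0
  refine ⟨Y, hY, ?_⟩
  rw [hN, zero_mul, sub_eq_zero] at hR
  calc expk k p Y = ((1 + N) * expk k p (-Y)) * expk k p Y := by rw [hR, one_mul]
    _ = (1 + N) * (expk k p Y * expk k p (-Y)) := by ring
    _ = 1 + N := by rw [expT_mul_neg (hnil _ hY) hm, mul_one]

/-- Moving `Z` past the exponential. -/
theorem mul_expT {X Z W W₂ : A} {m : ℕ} (hX : X ^ m = 0) (hm : m + 2 ≤ p)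
    (h1 : X * Z - Z * X = W) (h2 : X * W - W * X = W₂) (h3 : X * W₂ = W₂ * X) :
    Z * expk k p X = expk k p X * (Z - W + (2 : k)⁻¹ • W₂) := by
  classical
  rcases Nat.eq_zero_or_pos m with rfl | hm0
  · rw [pow_zero] at hX
    haveI : Subsingleton A := subsingleton_of_zero_eq_one hX.symm
    exact Subsingleton.elim _ _
  have h2' : (2 : k) ≠ 0 := by
    have := factorial_ne_zero_of_lt (k := k) (p := p) (i := 2) (by omega)
    simpa using this
  have hcomm : ∀ j : ℕ, Z * X ^ j = X ^ j * Z - (j : k) • (X ^ (j - 1) * W) +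
      ((j : k) * ((j : k) - 1) / 2) • (X ^ (j - 2) * W₂) := by
    intro j
    induction j with
    | zero => simp
    | succ j ih =>
      rw [pow_succ, ← mul_assoc, ih, add_mul, sub_mul, smul_mul_assoc, smul_mul_assoc]
      simp only [mul_assoc]
      rw [show Z * X = X * Z - W by rw [← h1]; abel, show W * X = X * W - W₂ by rw [← h2]; abel,
        ← h3, mul_sub, mul_sub]
      rcases j with _ | _ | j
      · simp [h2']
      · simp only [← mul_assoc, ← pow_succ]
        norm_num
        match_scalars <;> field_simp <;> (try ring) <;> simp [inv_mul_cancel₀ h2']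
      · simp only [← mul_assoc, ← pow_succ, show j + 1 + 1 - 1 = j + 1 by omega,
          show j + 1 + 1 - 2 = j by omega, show j + 1 + 1 + 1 - 1 = j + 2 by omega,
          show j + 1 + 1 + 1 - 2 = j + 1 by omega]
        push_cast
        match_scalars <;> field_simp <;> (try rw [inv_mul_cancel₀ h2']) <;> (try ring)
  have hhigh : ∀ j, m ≤ j → X ^ j = 0 := fun j hj => pow_eq_zero_of_le hj hX
  have d1 : ∑ j ∈ range p, ((j.factorial : k))⁻¹ • ((j : k) • (X ^ (j - 1) * W)) =
      expk k p X * W := by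
    obtain ⟨r, rfl⟩ : ∃ r, p = r + 1 := ⟨p - 1, by omega⟩
    rw [Finset.sum_range_succ', expk, expT, Finset.sum_mul, Finset.sum_range_succ,
      hhigh r (by omega)]
    simp only [Nat.cast_zero, zero_smul, smul_zero, add_zero, zero_mul, Nat.add_sub_cancel]
    refine Finset.sum_congr rfl fun i hi => ?_
    have := factorial_ne_zero_of_lt (k := k) (p := r + 1) (i := i + 1)
      (by have := mem_range.1 hi; omega)
    rw [smul_smul, smul_mul_assoc]
    congr 1
    rw [Nat.factorial_succ, Nat.cast_mul] at this ⊢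
    obtain ⟨hl, hr⟩ := mul_ne_zero_iff.1 this
    push_cast at hl ⊢
    field_simp
  have d2 : ∑ j ∈ range p, ((j.factorial : k))⁻¹ •
      (((j : k) * ((j : k) - 1) / 2) • (X ^ (j - 2) * W₂)) =
      expk k p X * ((2 : k)⁻¹ • W₂) := by
    obtain ⟨r, rfl⟩ : ∃ r, p = r + 2 := ⟨p - 2, by omega⟩
    rw [Finset.sum_range_succ', Finset.sum_range_succ', expk, expT, Finset.sum_mul,
      Finset.sum_range_succ, Finset.sum_range_succ, hhigh r (by omega),
      hhigh (r + 1) (by omega)]
    simp only [Nat.cast_zero, Nat.cast_one, zero_add, zero_mul, sub_self, mul_zero, zero_div,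
      zero_smul, smul_zero, add_zero]
    refine Finset.sum_congr rfl fun i hi => ?_
    have := factorial_ne_zero_of_lt (k := k) (p := r + 2) (i := i + 1 + 1)
      (by have := mem_range.1 hi; omega)
    rw [smul_smul, smul_mul_assoc, mul_smul_comm, smul_smul, show i + 1 + 1 - 2 = i by omega]
    congr 1
    rw [Nat.factorial_succ, Nat.factorial_succ, Nat.cast_mul, Nat.cast_mul] at this ⊢
    obtain ⟨hl, hr⟩ := mul_ne_zero_iff.1 this
    obtain ⟨hl2, hr2⟩ := mul_ne_zero_iff.1 hr
    push_cast at hl hl2 ⊢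
    field_simp
    ring
  rw [mul_add, mul_sub, ← d1, ← d2, expk, expT, Finset.mul_sum, Finset.sum_mul,
    ← Finset.sum_sub_distrib, ← Finset.sum_add_distrib]
  refine Finset.sum_congr rfl fun j _ => ?_
  rw [mul_smul_comm, hcomm, smul_add, smul_sub, smul_mul_assoc]

end CfsgLib.SmallDegree
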