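import Cfsg.Agent.Lib.SmallDegree.ExpT

/-!
# A `sl₂`-triple at the longest Jordan blocks of a nilpotent endomorphism
-/

set_option autoImplicit false
set_option linter.unusedSectionVars false

namespace CfsgLib.SmallDegree

open Finset Module

variable {k : Type*} [Field k] {V : Type*} [AddCommGroup V] [Module k V] [FiniteDimensional k V]

/-- The `k`-th basic idempotent. -/
def topIdem (X lam : Module.End k V) (m i : ℕ) : Module.End k V := X ^ i * lam * X ^ (m - 1 - i)

/-- The projection to the free part. -/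
def topProj (X lam : Module.End k V) (m : ℕ) : Module.End k V := ∑ i ∈ range m, topIdem X lam m i

/-- The grading operator. -/
def topH (X lam : Module.End k V) (m : ℕ) : Module.End k V :=
  ∑ i ∈ range m, ((m : k) - 1 - 2 * (i : k)) • topIdem X lam m i

/-- The lowering operator. -/
def topF (X lam : Module.End k V) (m : ℕ) : Module.End k V :=
  ∑ i ∈ range m, ((i : k) * ((m : k) - i)) • (X ^ (i - 1) * lam * X ^ (m - 1 - i))

/-- The span of the triple. -/
def tripleSpan (X lam : Module.End k V) (m : ℕ) : Submodule k (Module.End k V) :=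
  Submodule.span k {X * topProj X lam m, topH X lam m, topF X lam m}

/-- `λ` picks the coefficient of the bottom of the free part. -/
structure IsTopSection (X lam : Module.End k V) (m : ℕ) : Prop where
  pow_eq_zero : X ^ m = 0
  sect : ∀ j, j < m → lam * X ^ j * lam = if j + 1 = m then lam else 0
  ne_zero : lam ≠ 0
  two_le : 2 ≤ m

variable {X lam : Module.End k V} {m : ℕ}

theorem IsTopSection.sect' (h : IsTopSection X lam m) (j : ℕ) :
    lam * X ^ j * lam = if j + 1 = m then lam else 0 := by
  rcases lt_or_ge j m with hj | hj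
  · exact h.sect j hj
  · rw [pow_eq_zero_of_le hj h.pow_eq_zero, mul_zero, zero_mul, if_neg (by omega)]

theorem topIdem_mul (h : IsTopSection X lam m) {i j : ℕ} (hi : i < m) (hj : j < m) :
    topIdem X lam m i * topIdem X lam m j = if i = j then topIdem X lam m i else 0 := by
  have he : topIdem X lam m i * topIdem X lam m j =
      X ^ i * (lam * X ^ (m - 1 - i + j) * lam) * X ^ (m - 1 - j) := by
    simp only [topIdem, mul_assoc, pow_add]
  rw [he, h.sect']
  by_cases hij : i = j
  · subst hij
    rw [if_pos (by omega), if_pos rfl]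
    rfl
  · rw [if_neg (by omega), if_neg hij, mul_zero, zero_mul]

theorem topProj_mul_idem (h : IsTopSection X lam m) {j : ℕ} (hj : j < m) :
    topProj X lam m * topIdem X lam m j = topIdem X lam m j := by
  rw [topProj, Finset.sum_mul, Finset.sum_eq_single j (fun i hi hij => by
    rw [topIdem_mul h (mem_range.1 hi) hj, if_neg hij]) (fun hn => absurd (mem_range.2 hj) hn),
    topIdem_mul h hj hj, if_pos rfl]

theorem topProj_idem (h : IsTopSection X lam m) :
    topProj X lam m * topProj X lam m = topProj X lam m := by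
  conv_lhs => arg 2; rw [topProj]
  rw [Finset.mul_sum, Finset.sum_congr rfl fun j hj => topProj_mul_idem h (mem_range.1 hj)]
  rfl

theorem topProj_comm (h : IsTopSection X lam m) : X * topProj X lam m = topProj X lam m * X := by
  have key : ∀ i ∈ range m, X * topIdem X lam m i - topIdem X lam m i * X =
      X ^ (i + 1) * lam * X ^ (m - (i + 1)) - X ^ i * lam * X ^ (m - i) := by
    intro i hi
    have := mem_range.1 hi
    rw [topIdem, show m - (i + 1) = m - 1 - i by omega, show m - i = m - 1 - i + 1 by omega,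
      pow_succ' X i, pow_succ X (m - 1 - i)]
    simp only [mul_assoc]
  rw [← sub_eq_zero, topProj, Finset.mul_sum, Finset.sum_mul, ← Finset.sum_sub_distrib,
    Finset.sum_congr rfl key, Finset.sum_range_sub (fun i => X ^ i * lam * X ^ (m - i))]
  simp [h.pow_eq_zero]

theorem lie_topH (h : IsTopSection X lam m) :
    X * topH X lam m - topH X lam m * X = (2 : k) • (X * topProj X lam m) := by
  have key : ∀ i ∈ range m,
      X * (((m : k) - 1 - 2 * (i : k)) • topIdem X lam m i) -
        ((m : k) - 1 - 2 * (i : k)) • topIdem X lam m i * X - (2 : k) • (X * topIdem X lam m i) =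
      ((m : k) - 1 - 2 * ((i + 1 : ℕ) : k)) • (X ^ (i + 1) * lam * X ^ (m - (i + 1))) -
        ((m : k) - 1 - 2 * (i : k)) • (X ^ i * lam * X ^ (m - i)) := by
    intro i hi
    have := mem_range.1 hi
    rw [topIdem, show m - (i + 1) = m - 1 - i by omega, show m - i = m - 1 - i + 1 by omega,
      pow_succ' X i, pow_succ X (m - 1 - i), mul_smul_comm, smul_mul_assoc]
    simp only [mul_assoc, Nat.cast_add, Nat.cast_one]
    module
  rw [← sub_eq_zero, topH, topProj, Finset.mul_sum, Finset.sum_mul, ← Finset.sum_sub_distrib,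
    Finset.mul_sum, Finset.smul_sum, ← Finset.sum_sub_distrib, Finset.sum_congr rfl key,
    Finset.sum_range_sub (fun i => ((m : k) - 1 - 2 * (i : k)) • (X ^ i * lam * X ^ (m - i)))]
  simp [h.pow_eq_zero]

theorem mul_topF (h : IsTopSection X lam m) :
    X * topF X lam m = ∑ i ∈ range m, ((i : k) * ((m : k) - i)) • topIdem X lam m i := by
  rw [topF, Finset.mul_sum]
  refine Finset.sum_congr rfl fun i _ => ?_
  rcases i with _ | i
  · simp
  · rw [mul_smul_comm, topIdem, Nat.add_sub_cancel, pow_succ']
    simp only [mul_assoc]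

theorem lie_topF (h : IsTopSection X lam m) :
    X * topF X lam m - topF X lam m * X = -topH X lam m := by
  have hm : m = m - 1 + 1 := by have := h.two_le; omega
  have h2 : topF X lam m * X =
      ∑ i ∈ range m, (((i : k) + 1) * ((m : k) - i - 1)) • topIdem X lam m i := by
    rw [topF, Finset.sum_mul, hm, Finset.sum_range_succ', Finset.sum_range_succ _ (m - 1), ← hm]
    have hlast : ((m - 1 : ℕ) : k) + 1 = (m : k) := by
      rw [← Nat.cast_add_one, ← hm]
    simp only [Nat.cast_zero, zero_mul, zero_smul, add_zero]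
    rw [show ((m : k) - ((m - 1 : ℕ) : k) - 1) = 0 by linear_combination -hlast, mul_zero, zero_smul,
      add_zero]
    refine Finset.sum_congr rfl fun i hi => ?_
    have := mem_range.1 hi
    rw [smul_mul_assoc, topIdem, Nat.add_sub_cancel, mul_assoc _ _ X, ← pow_succ,
      show m - 1 - (i + 1) + 1 = m - 1 - i by omega, Nat.cast_add_one]
    congr 1
    ring
  rw [mul_topF h, h2, topH, ← Finset.sum_sub_distrib, ← Finset.sum_neg_distrib]
  refine Finset.sum_congr rfl fun i _ => ?_
  module

theorem lie_mul_topProj (h : IsTopSection X lam m) :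
    X * (X * topProj X lam m) = X * topProj X lam m * X := by
  rw [mul_assoc, ← topProj_comm h]

theorem finiteDimensional_tripleSpan : FiniteDimensional k (tripleSpan X lam m) := inferInstance

theorem trace_topIdem (h : IsTopSection X lam m) {i : ℕ} (hi : i < m) :
    LinearMap.trace k V (topIdem X lam m i) = LinearMap.trace k V (lam * X ^ (m - 1)) := by
  rw [topIdem, mul_assoc, LinearMap.trace_mul_comm, mul_assoc, ← pow_add,
    show m - 1 - i + i = m - 1 by omega]

/-- The trace of a basic idempotent is a positive integer at most the dimension. -/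
theorem exists_trace_eq (h : IsTopSection X lam m) :
    ∃ θ : ℕ, 0 < θ ∧ θ ≤ finrank k V ∧ LinearMap.trace k V (lam * X ^ (m - 1)) = θ := by
  have hid : IsIdempotentElem (lam * X ^ (m - 1)) := by
    show lam * X ^ (m - 1) * (lam * X ^ (m - 1)) = _
    rw [← mul_assoc, h.sect' (m - 1), if_pos (by have := h.two_le; omega)]
  refine ⟨finrank k (LinearMap.range (lam * X ^ (m - 1))), ?_, Submodule.finrank_le _,
    (LinearMap.IsProj.mk (fun v => LinearMap.mem_range_self _ v) (fun v hv => by
      obtain ⟨w, rfl⟩ := hv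
      exact LinearMap.congr_fun hid.eq w) :
      LinearMap.IsProj (LinearMap.range (lam * X ^ (m - 1))) (lam * X ^ (m - 1))).trace⟩
  rw [Nat.pos_iff_ne_zero, Ne, Submodule.finrank_eq_zero, LinearMap.range_eq_bot]
  intro h0
  apply h.ne_zero
  have h1 := h.sect' (m - 1)
  rw [if_pos (by have := h.two_le; omega), h0, zero_mul] at h1
  exact h1.symm

theorem six_mul_sum_mul_sub (m : ℕ) :
    6 * ∑ i ∈ range m, i * (m - i) = (m - 1) * m * (m + 1) := by
  induction m with
  | zero => rfl
  | succ m ih =>
    have hs : ∑ i ∈ range (m + 1), i * (m + 1 - i) =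
        (∑ i ∈ range m, i * (m - i)) + ∑ i ∈ range (m + 1), i := by
      rw [Finset.sum_range_succ, Finset.sum_range_succ (fun i => i), ← add_assoc,
        ← Finset.sum_add_distrib, Nat.add_sub_cancel_left, mul_one]
      congr 1
      refine Finset.sum_congr rfl fun i hi => ?_
      rw [show m + 1 - i = m - i + 1 by have := mem_range.1 hi; omega, mul_add, mul_one]
    have h2 := Finset.sum_range_id_mul_two (m + 1)
    rw [hs, mul_add, ih]
    rcases m with _ | m
    · simp
    · simp only [Nat.add_sub_cancel] at h2 ⊢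
      nlinarith [h2]

/-- The trace form on the triple. -/
theorem trace_triple {p : ℕ} [Fact p.Prime] [CharP k p] (h : IsTopSection X lam m) (hp : 3 < p)
    (hm : m + 1 < p) (hV : finrank k V < p) :
    ∃ a : k, a ≠ 0 ∧ LinearMap.trace k V (X * topProj X lam m * topF X lam m) = a ∧
      LinearMap.trace k V (topH X lam m * topH X lam m) = 2 * a ∧
      LinearMap.trace k V (X * topProj X lam m * (X * topProj X lam m)) = 0 ∧
      LinearMap.trace k V (topH X lam m * (X * topProj X lam m)) = 0 ∧
      LinearMap.trace k V (topH X lam m * topF X lam m) = 0 := by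
  obtain ⟨θ, hθ0, hθ, htr⟩ := exists_trace_eq h
  have h2 : (2 : k) ≠ 0 := by
    have := factorial_ne_zero_of_lt (k := k) (p := p) (i := 2) (by omega)
    simpa using this
  have hP := Fact.out (p := p.Prime)
  set E := X * topProj X lam m with hE
  set hh := topH X lam m with hhh
  set f := topF X lam m with hf
  set tr := LinearMap.trace k V with htrdef
  have e1 : X * hh - hh * X = (2 : k) • E := lie_topH h
  have e2 : X * f - f * X = -hh := lie_topF h
  have e3 : X * E = E * X := lie_mul_topProj h
  have hcomm := fun a b : Module.End k V => LinearMap.trace_mul_comm k a b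
  have z1 : tr (E * E) = 0 := by
    have : (2 : k) • tr (E * E) = 0 := by
      rw [← map_smul, ← mul_smul_comm, ← e1, mul_sub, ← mul_assoc E X, ← mul_assoc E hh, ← e3, map_sub,
        hcomm (E * hh) X, ← mul_assoc X E, sub_self]
    simpa [h2] using this
  have z2 : tr (hh * E) = 0 := by
    have : (2 : k) • tr (hh * E) = 0 := by
      rw [← map_smul, ← mul_smul_comm, ← e1, mul_sub, map_sub, ← mul_assoc, hcomm hh (hh * X),
        sub_self]
    simpa [h2] using this
  have z3 : tr (hh * f) = 0 := by
    rw [show hh = f * X - X * f by rw [← neg_neg hh, ← e2, neg_sub], sub_mul, map_sub, mul_assoc,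
      hcomm f (X * f), sub_self]
  have htwo : tr (hh * hh) = 2 * tr (E * f) := by
    have hl : tr (hh * hh) = tr (hh * (f * X)) - tr (hh * (X * f)) := by
      rw [← map_sub, ← mul_sub, show f * X - X * f = hh by rw [← neg_neg hh, ← e2, neg_sub]]
    rw [hl, ← mul_assoc, ← mul_assoc, hcomm (hh * f) X, ← mul_assoc, ← map_sub, ← sub_mul, e1,
      smul_mul_assoc, map_smul, smul_eq_mul]
  refine ⟨tr (E * f), ?_, rfl, htwo, z1, z2, z3⟩
  have hEf : tr (E * f) = ((θ * ∑ i ∈ range m, i * (m - i) : ℕ) : k) := by
    rw [hE, topProj_comm h, mul_assoc, hf, mul_topF h, Finset.mul_sum, map_sum, Finset.mul_sum,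
      Nat.cast_sum]
    refine Finset.sum_congr rfl fun i hi => ?_
    rw [mul_smul_comm, topProj_mul_idem h (mem_range.1 hi), map_smul, htrdef,
      trace_topIdem h (mem_range.1 hi), htr, smul_eq_mul, Nat.cast_mul, Nat.cast_mul,
      Nat.cast_sub (mem_range.1 hi).le]
    ring
  rw [hEf, Ne, CharP.cast_eq_zero_iff k p, hP.dvd_mul, not_or]
  refine ⟨fun hd => ?_, fun hd => ?_⟩
  · have := Nat.le_of_dvd hθ0 hd
    omega
  · have h6 := (dvd_mul_of_dvd_right hd 6)
    rw [six_mul_sum_mul_sub, hP.dvd_mul, hP.dvd_mul] at h6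
    have := h.two_le
    rcases h6 with (h6 | h6) | h6 <;> have := Nat.le_of_dvd (by omega) h6 <;> omega

theorem linearIndependent_triple {p : ℕ} [Fact p.Prime] [CharP k p] (h : IsTopSection X lam m)
    (hp : 3 < p) (hm : m + 1 < p) (hV : finrank k V < p) :
    LinearIndependent k ![X * topProj X lam m, topH X lam m, topF X lam m] := by
  obtain ⟨a, ha, hEf, hhh, hEE, hhE, hhf⟩ := trace_triple h hp hm hV
  have h2 : (2 : k) ≠ 0 := by
    have := factorial_ne_zero_of_lt (k := k) (p := p) (i := 2) (by omega)
    simpa using this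
  rw [Fintype.linearIndependent_iff]
  intro g hg
  simp only [Fin.sum_univ_three, Matrix.cons_val_zero, Matrix.cons_val_one, Matrix.cons_val] at hg
  have c2 := congrArg (fun Z => LinearMap.trace k V (X * topProj X lam m * Z)) hg
  simp only [mul_add, mul_smul_comm, map_add, map_smul, mul_zero, map_zero, hEE, hEf,
    LinearMap.trace_mul_comm k (X * topProj X lam m) (topH X lam m), hhE, smul_eq_mul] at c2
  have c1 := congrArg (fun Z => LinearMap.trace k V (topH X lam m * Z)) hg
  simp only [mul_add, mul_smul_comm, map_add, map_smul, mul_zero, map_zero, hhh, hhE, hhf,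
    smul_eq_mul] at c1
  have g2 : g 2 = 0 := by simpa [ha] using c2
  have g1 : g 1 = 0 := by simpa [ha, h2] using c1
  rw [g1, g2, zero_smul, zero_smul, add_zero, add_zero] at hg
  have g0 : g 0 = 0 := by
    have c0 := congrArg (fun Z => LinearMap.trace k V (Z * topF X lam m)) hg
    simpa [hEf, ha] using c0
  intro i
  fin_cases i <;> assumption

/-- The restriction of the trace form to the triple is non-degenerate. -/
theorem tripleSpan_inf_orth {p : ℕ} [Fact p.Prime] [CharP k p] (h : IsTopSection X lam m)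
    (hp : 3 < p) (hm : m + 1 < p) (hV : finrank k V < p) {Z : Module.End k V}
    (hZ : Z ∈ tripleSpan X lam m)
    (horth : ∀ Y ∈ tripleSpan X lam m, LinearMap.trace k V (Y * Z) = 0) : Z = 0 := by
  obtain ⟨a, ha, hEf, hhh, hEE, hhE, hhf⟩ := trace_triple h hp hm hV
  have h2 : (2 : k) ≠ 0 := by
    have := factorial_ne_zero_of_lt (k := k) (p := p) (i := 2) (by omega)
    simpa using this
  simp only [tripleSpan, Submodule.mem_span_insert, Submodule.mem_span_singleton] at hZ
  obtain ⟨u, _, ⟨v, _, ⟨w, rfl⟩, rfl⟩, rfl⟩ := hZ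
  have c2 := horth (X * topProj X lam m) (Submodule.subset_span (by simp))
  simp only [mul_add, mul_smul_comm, map_add, map_smul, hEE, hEf,
    LinearMap.trace_mul_comm k (X * topProj X lam m) (topH X lam m), hhE, smul_eq_mul] at c2
  have hw : w = 0 := by simpa [ha] using c2
  have c1 := horth (topH X lam m) (Submodule.subset_span (by simp))
  simp only [mul_add, mul_smul_comm, map_add, map_smul, hhh, hhE, hhf, smul_eq_mul] at c1
  have hv : v = 0 := by simpa [ha, h2] using c1
  have c0 := horth (topF X lam m) (Submodule.subset_span (by simp))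
  subst hw hv
  simp only [zero_smul, add_zero, mul_smul_comm, map_smul,
    LinearMap.trace_mul_comm k (topF X lam m), hEf, smul_eq_mul] at c0
  have hu : u = 0 := by simpa [ha] using c0
  subst hu
  simp

/-- The action of `expT X` on the triple. -/
theorem triple_mul_expT {p : ℕ} [Fact p.Prime] [CharP k p] (h : IsTopSection X lam m)
    (hm : m + 2 ≤ p) :
    X * topProj X lam m * expk k p X = expk k p X * (X * topProj X lam m) ∧
    topH X lam m * expk k p X =
      expk k p X * (topH X lam m - (2 : k) • (X * topProj X lam m)) ∧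
    topF X lam m * expk k p X =
      expk k p X * (topF X lam m + topH X lam m - X * topProj X lam m) := by
  have e1 := lie_topH h
  have e2 := lie_topF h
  have e3 := lie_mul_topProj h
  refine ⟨?_, ?_, ?_⟩
  · have := mul_expT (k := k) h.pow_eq_zero hm (sub_eq_zero.2 e3) (W₂ := 0) (by simp) (by simp)
    simpa using this
  · have := mul_expT (k := k) h.pow_eq_zero hm e1 (W₂ := 0)
      (by rw [mul_smul_comm, smul_mul_assoc, e3, sub_self]) (by simp)
    simpa using this
  · have h2 : (2 : k) ≠ 0 := by
      have := factorial_ne_zero_of_lt (k := k) (p := p) (i := 2) (by have := h.two_le; omega)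
      simpa using this
    have hW : X * -topH X lam m - -topH X lam m * X = -((2 : k) • (X * topProj X lam m)) := by
      rw [← e1, mul_neg, neg_mul]; abel
    have := mul_expT (k := k) h.pow_eq_zero hm e2 hW
      (by rw [mul_neg, neg_mul, mul_smul_comm, smul_mul_assoc, e3])
    rw [this, smul_neg, inv_smul_smul₀ h2, sub_neg_eq_add, ← sub_eq_add_neg]

theorem sigma_topIdem {σ : Module.End k V →ₐ[k] Module.End k V} {c : k} (hX : σ X = c • X)
    (hlam : c ^ (m - 1) • σ lam = lam) (j l : ℕ) :
    (c ^ (m - 1)) • σ (X ^ j * lam * X ^ l) = c ^ (j + l) • (X ^ j * lam * X ^ l) := by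
  rw [map_mul, map_mul, map_pow, map_pow, hX, smul_pow, smul_pow]
  simp only [smul_mul_assoc, mul_smul_comm, smul_smul]
  conv_rhs => rw [← hlam]
  simp only [smul_mul_assoc, mul_smul_comm, smul_smul]
  congr 1
  ring

/-- A symmetry scaling `X` stabilises the triple. -/
theorem sigma_mem_tripleSpan {σ : Module.End k V →ₐ[k] Module.End k V} {c : k} (hc : c ≠ 0)
    (hX : σ X = c • X) (hlam : c ^ (m - 1) • σ lam = lam) {Z : Module.End k V}
    (hZ : Z ∈ tripleSpan X lam m) : σ Z ∈ tripleSpan X lam m := by
  have hi : ∀ i ∈ range m, σ (topIdem X lam m i) = topIdem X lam m i := fun i hi => by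
    have := sigma_topIdem hX hlam i (m - 1 - i)
    rw [show i + (m - 1 - i) = m - 1 by have := mem_range.1 hi; omega] at this
    exact smul_right_injective _ (pow_ne_zero _ hc) this
  have hP : σ (topProj X lam m) = topProj X lam m := by
    rw [topProj, map_sum]; exact Finset.sum_congr rfl hi
  have hH : σ (topH X lam m) = topH X lam m := by
    rw [topH, map_sum]
    exact Finset.sum_congr rfl fun i hi' => by rw [map_smul, hi i hi']
  have hF : c • σ (topF X lam m) = topF X lam m := by
    rw [topF, map_sum, Finset.smul_sum]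
    refine Finset.sum_congr rfl fun i hi' => ?_
    rw [map_smul]
    rcases i with _ | i
    · simp
    · have := sigma_topIdem hX hlam i (m - 1 - (i + 1))
      rw [show m - 1 = i + (m - 1 - (i + 1)) + 1 by have := mem_range.1 hi'; omega] at this
      rw [pow_succ, mul_smul, ← show m - 1 = i + (m - 1 - (i + 1)) + 1 by
        have := mem_range.1 hi'; omega] at this
      rw [smul_comm, Nat.add_sub_cancel, smul_right_injective _ (pow_ne_zero _ hc) this]
  induction hZ using Submodule.span_induction with
  | mem z hz =>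
    rcases hz with rfl | rfl | rfl
    · rw [map_mul, hP, hX, smul_mul_assoc]
      exact Submodule.smul_mem _ _ (Submodule.subset_span (by simp))
    · rw [hH]; exact Submodule.subset_span (by simp)
    · rw [show σ (topF X lam m) = c⁻¹ • topF X lam m by rw [← hF, inv_smul_smul₀ hc]; simp [hF]]
      exact Submodule.smul_mem _ _ (Submodule.subset_span (by simp))
  | zero => rw [map_zero]; exact zero_mem _
  | add a b _ _ ha hb => rw [map_add]; exact add_mem ha hb
  | smul r a _ ha => rw [map_smul]; exact Submodule.smul_mem _ _ ha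

/-- An equivariant section of the top of a nilpotent endomorphism. -/
theorem exists_topSection {K : Type*} [Group K] [Finite K] (hK : (Nat.card K : k) ≠ 0)
    (τ : Representation k K V) (c : K → k) (hm2 : 2 ≤ m) (hXm : X ^ m = 0)
    (hne : X ^ (m - 1) ≠ 0) (hτ : ∀ g, τ g * X = c g • (X * τ g)) :
    ∃ lam : Module.End k V, IsTopSection X lam m ∧
      ∀ g, c g ^ (m - 1) • (τ g * lam * τ g⁻¹) = lam := by
  classical
  haveI := Fintype.ofFinite K
  have hone : ∀ g, τ g * τ g⁻¹ = 1 := fun g => by rw [← map_mul, mul_inv_cancel, map_one]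
  have hone' : ∀ g, τ g⁻¹ * τ g = 1 := fun g => by rw [← map_mul, inv_mul_cancel, map_one]
  have hX0 : X ≠ 0 := fun h => hne (by rw [h, zero_pow (by omega)])
  have hc0 : ∀ g, c g ≠ 0 := fun g h => by
    have := congrArg (fun Z => τ g⁻¹ * Z) (hτ g)
    simp only [← mul_assoc, hone', one_mul, h, zero_smul, mul_zero] at this
    exact hX0 this
  have hpow : ∀ g (j : ℕ), τ g * X ^ j = c g ^ j • (X ^ j * τ g) := by
    intro g j
    induction j with
    | zero => simp
    | succ j ih =>
      rw [pow_succ, ← mul_assoc, ih, smul_mul_assoc, mul_assoc, hτ, mul_smul_comm, smul_smul,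
        ← mul_assoc, ← pow_succ]
  have hcm : ∀ a b, c (a * b) = c a * c b := fun a b => by
    have h1 := hτ (a * b)
    rw [map_mul, mul_assoc, hτ b, mul_smul_comm, ← mul_assoc, hτ a, smul_mul_assoc, smul_smul,
      mul_assoc] at h1
    have h2 := congrArg (fun Z => Z * (τ (b⁻¹) * τ a⁻¹)) h1
    simp only [smul_mul_assoc, mul_assoc] at h2
    rw [← mul_assoc (τ b), hone, one_mul, hone, mul_one] at h2
    have h3 : (c (a * b) - c b * c a) • X = 0 := by rw [sub_smul, h2, sub_self]
    linear_combination (smul_eq_zero.1 h3).resolve_right hX0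
  have hcc : ∀ g, c g * c g⁻¹ = 1 := fun g => by
    have h1 := hτ 1
    rw [map_one, one_mul, mul_one] at h1
    have h3 : (1 - c 1) • X = 0 := by rw [sub_smul, one_smul, ← h1, sub_self]
    rw [← hcm, mul_inv_cancel]
    linear_combination -((smul_eq_zero.1 h3).resolve_right hX0)
  set Kr := LinearMap.ker (X ^ (m - 1)) with hKr
  have hKinv : ∀ g, ∀ v ∈ Kr, τ g v ∈ Kr := fun g v hv => by
    rw [hKr, LinearMap.mem_ker] at hv ⊢
    have h1 := LinearMap.congr_fun (hpow g (m - 1)) v
    rw [Module.End.mul_apply, hv, map_zero, LinearMap.smul_apply, Module.End.mul_apply,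
      eq_comm, smul_eq_zero] at h1
    exact h1.resolve_left (pow_ne_zero _ (hc0 g))
  have hKinv' : ∀ g v, τ g v ∈ Kr → v ∈ Kr := fun g v hv => by
    have := hKinv g⁻¹ _ hv
    rwa [← Module.End.mul_apply, hone'] at this
  obtain ⟨C, hC⟩ := Kr.exists_isCompl
  obtain ⟨π₀, hπ₀⟩ : ∃ π₀ : Module.End k V, (∀ v ∈ Kr, π₀ v = 0) ∧ ∀ v, v - π₀ v ∈ Kr :=
    ⟨C.subtype.comp (C.projectionOnto Kr hC.symm), fun v hv => by
      show (C.projectionOnto Kr hC.symm v : V) = 0
      rw [(Submodule.projectionOnto_apply_eq_zero_iff hC.symm).2 hv]; rfl, fun v => by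
      rw [← Submodule.projectionOnto_apply_eq_zero_iff hC.symm]
      show C.projectionOnto Kr hC.symm
        (v - (C.projectionOnto Kr hC.symm v : V)) = 0
      rw [map_sub, Submodule.projectionOnto_apply_left, sub_self]⟩
  obtain ⟨π₁, hπ₁⟩ : ∃ π₁ : Module.End k V,
      π₁ = (Nat.card K : k)⁻¹ • ∑ g : K, τ g * π₀ * τ g⁻¹ := ⟨_, rfl⟩
  have hπK : ∀ v ∈ Kr, π₁ v = 0 := fun v hv => by
    rw [hπ₁, LinearMap.smul_apply, LinearMap.sum_apply, Finset.sum_eq_zero, smul_zero]
    intro g _
    rw [Module.End.mul_apply, Module.End.mul_apply, hπ₀.1 _ (hKinv _ v hv), map_zero]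
  have hπd : ∀ v, v - π₁ v ∈ Kr := fun v => by
    have h1 : v - π₁ v = (Nat.card K : k)⁻¹ • ∑ g : K, τ g (τ g⁻¹ v - π₀ (τ g⁻¹ v)) := by
      simp only [map_sub, Finset.sum_sub_distrib, smul_sub, hπ₁, LinearMap.smul_apply,
        LinearMap.sum_apply, Module.End.mul_apply]
      congr 1
      rw [Finset.sum_congr rfl fun g _ => by rw [← Module.End.mul_apply, hone,
        Module.End.one_apply], Finset.sum_const, Finset.card_univ, ← Nat.card_eq_fintype_card,
        ← Nat.cast_smul_eq_nsmul k, inv_smul_smul₀ hK]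
    rw [h1]
    exact Submodule.smul_mem _ _ (Submodule.sum_mem _ fun g _ => hKinv g _ (hπ₀.2 _))
  have hπg : ∀ g, τ g * π₁ = π₁ * τ g := fun g => by
    rw [hπ₁, mul_smul_comm, smul_mul_assoc, Finset.mul_sum, Finset.sum_mul]
    congr 1
    refine Fintype.sum_equiv (Equiv.mulLeft g) _ _ fun a => ?_
    simp only [Equiv.coe_mulLeft, map_mul, mul_inv_rev, mul_assoc, hone', mul_one]
  set U := LinearMap.range π₁ with hU
  have hUg : ∀ g, ∀ u ∈ U, τ g u ∈ U := by
    rintro g _ ⟨v, rfl⟩
    exact ⟨τ g v, (LinearMap.congr_fun (hπg g) v).symm⟩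
  have hUfix : ∀ u ∈ U, π₁ u = u := by
    rintro _ ⟨v, rfl⟩
    have := hπK _ (hπd v)
    rw [map_sub, sub_eq_zero] at this
    exact this.symm
  have hinj : ∀ u ∈ U, (X ^ (m - 1) : Module.End k V) u = 0 → u = 0 := fun u hu h => by
    rw [← hUfix u hu]; exact hπK u (LinearMap.mem_ker.2 h)
  let Φ : (Fin m → U) →ₗ[k] V :=
    { toFun := fun u => ∑ i : Fin m, (X ^ (i : ℕ) : Module.End k V) (u i : V)
      map_add' := fun u v => by simp [map_add, Finset.sum_add_distrib]
      map_smul' := fun r u => by simp [map_smul, Finset.smul_sum] }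
  have hΦinj : LinearMap.ker Φ = ⊥ := by
    rw [LinearMap.ker_eq_bot']
    intro u hu
    suffices h : ∀ (j : ℕ) (hj : j < m), u ⟨j, hj⟩ = 0 from funext fun i => h i i.2
    intro j
    induction j using Nat.strong_induction_on with | _ j ih => ?_
    intro hj
    have h1 := congrArg (X ^ (m - 1 - j) : Module.End k V) hu
    change (X ^ (m - 1 - j) : Module.End k V) (∑ i : Fin m, (X ^ (i : ℕ) : Module.End k V) (u i : V))
      = (X ^ (m - 1 - j) : Module.End k V) 0 at h1
    rw [map_zero, map_sum, Finset.sum_eq_single ⟨j, hj⟩ ?_ (fun h => absurd (mem_univ _) h)] at h1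
    · refine Subtype.ext (hinj _ (u ⟨j, hj⟩).2 ?_)
      rwa [← Module.End.mul_apply, ← pow_add, Fin.val_mk,
        show m - 1 - j + j = m - 1 by omega] at h1
    · intro i _ hi
      rcases lt_or_gt_of_ne (fun h : (i : ℕ) = j => hi (Fin.ext h)) with h | h
      · rw [ih i h i.2]; simp
      · rw [← Module.End.mul_apply, ← pow_add, pow_eq_zero_of_le (by omega) hXm,
          LinearMap.zero_apply]
  obtain ⟨Λ, hΛ⟩ := Φ.exists_leftInverse_of_injective hΦinj
  obtain ⟨bot₀, hbot⟩ : ∃ l : Module.End k V,
      l = U.subtype.comp ((LinearMap.proj (⟨m - 1, by omega⟩ : Fin m)).comp Λ) := ⟨_, rfl⟩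
  have hb₀ : ∀ (j : ℕ), ∀ u ∈ U, bot₀ ((X ^ j : Module.End k V) u) =
      if j + 1 = m then u else 0 := by
    intro j u hu
    rcases lt_or_ge j m with hj | hj
    · have h1 : Φ (Pi.single ⟨j, hj⟩ ⟨u, hu⟩) = (X ^ j : Module.End k V) u := by
        show ∑ i : Fin m, _ = _
        rw [Finset.sum_eq_single ⟨j, hj⟩ (fun i _ hi => by rw [Pi.single_eq_of_ne hi]; simp)
          (fun h => absurd (mem_univ _) h), Pi.single_eq_same]
      rw [← h1, hbot]
      show ((Λ.comp Φ) (Pi.single (⟨j, hj⟩ : Fin m) (⟨u, hu⟩ : U)) ⟨m - 1, by omega⟩ : V) = _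
      rw [hΛ, LinearMap.id_apply]
      rcases eq_or_ne j (m - 1) with rfl | hj0
      · rw [if_pos (by omega), Pi.single_eq_same]
      · rw [if_neg (by omega), Pi.single_eq_of_ne (fun h => hj0 (Fin.ext_iff.1 h).symm)]; rfl
    · rw [pow_eq_zero_of_le hj hXm, LinearMap.zero_apply, map_zero, if_neg (by omega)]
  obtain ⟨lam, hlam⟩ : ∃ l : Module.End k V,
      l = (Nat.card K : k)⁻¹ • ∑ g : K, c g ^ (m - 1) • (τ g * bot₀ * τ g⁻¹) := ⟨_, rfl⟩
  have hlamU : ∀ v, lam v ∈ U := fun v => by
    rw [hlam, LinearMap.smul_apply, LinearMap.sum_apply]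
    refine Submodule.smul_mem _ _ (Submodule.sum_mem _ fun g _ => ?_)
    rw [LinearMap.smul_apply, Module.End.mul_apply, Module.End.mul_apply]
    refine Submodule.smul_mem _ _ (hUg g _ ?_)
    rw [hbot]
    exact Subtype.coe_prop _
  have hlamX : ∀ (j : ℕ), ∀ u ∈ U, lam ((X ^ j : Module.End k V) u) =
      if j + 1 = m then u else 0 := by
    intro j u hu
    rw [hlam, LinearMap.smul_apply, LinearMap.sum_apply]
    have hterm : ∀ g : K, (c g ^ (m - 1) • (τ g * bot₀ * τ g⁻¹)) ((X ^ j : Module.End k V) u) =
        if j + 1 = m then u else 0 := fun g => by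
      rw [LinearMap.smul_apply, Module.End.mul_apply, Module.End.mul_apply,
        ← Module.End.mul_apply (τ g⁻¹), hpow, LinearMap.smul_apply, Module.End.mul_apply, map_smul,
        hb₀ j _ (hUg _ u hu), map_smul, smul_smul]
      split_ifs with h
      · rw [← Module.End.mul_apply, hone, show m - 1 = j by omega, ← mul_pow]
        rw [hcc g, one_pow, one_smul, Module.End.one_apply]
      · rw [map_zero, smul_zero]
    rw [Finset.sum_congr rfl fun g _ => hterm g, Finset.sum_const, Finset.card_univ,
      ← Nat.card_eq_fintype_card, ← Nat.cast_smul_eq_nsmul k, inv_smul_smul₀ hK]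
  refine ⟨lam, ⟨hXm, fun j hj => LinearMap.ext fun v => ?_, fun h0 => ?_, hm2⟩, fun g => ?_⟩
  · rw [Module.End.mul_apply, Module.End.mul_apply, hlamX j _ (hlamU v)]
    split_ifs <;> rfl
  · obtain ⟨v, hv⟩ : ∃ v, (X ^ (m - 1) : Module.End k V) v ≠ 0 := by
      by_contra hall
      exact hne (LinearMap.ext fun v => not_not.1 fun h => hall ⟨v, h⟩)
    have hu : π₁ v ≠ 0 := fun h => hv (by
      have := hπd v
      rw [h, sub_zero] at this
      exact LinearMap.mem_ker.1 this)
    refine hu ?_
    have := hlamX (m - 1) (π₁ v) ⟨v, rfl⟩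
    rw [if_pos (by omega), h0, LinearMap.zero_apply] at this
    exact this.symm
  · rw [hlam, mul_smul_comm, smul_mul_assoc, smul_comm, Finset.mul_sum, Finset.sum_mul,
      Finset.smul_sum]
    congr 1
    refine Fintype.sum_equiv (Equiv.mulLeft g) _ _ fun a => ?_
    simp only [Equiv.coe_mulLeft, map_mul, mul_inv_rev, mul_smul_comm, smul_mul_assoc, smul_smul,
      mul_assoc, hcm, mul_pow]

end CfsgLib.SmallDegree
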